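import Cfsg.Agent.Lib.SEmb.Counting
import Cfsg.Agent.Lib.FT.Final
import Mathlib.GroupTheory.Perm.Cycle.Type

/-!
# Generalized dihedral centralizers: basic facts

`H` is a subgroup with a proper subgroup `A` such that `H \ A` consists of involutions inverting
`A`, and `H` is the centralizer of every involution of `A`. There are at least two such
involutions. We study the action of `G` on the cosets of the normalizer of `H`.
-/

set_option autoImplicit false
set_option linter.unusedSectionVars false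

namespace CfsgLib.DGroupCent

open Subgroup

variable {G : Type*} [Group G]

/-- In the group generated by two involutions `t` and `u`: either they are conjugate by an element
commuting with whatever commutes with both, or their product has even order. -/
theorem conj_or_even [Finite G] {t u : G} (ht : t * t = 1) (hu : u * u = 1) :
    (∃ n : ℤ, (t * u) ^ n * t * ((t * u) ^ n)⁻¹ = u) ∨
      ∃ k : ℕ, 0 < k ∧ orderOf (t * u) = 2 * k := by
  have hinv := Invol.conj_prod ht hu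
  rcases Nat.even_or_odd (orderOf (t * u)) with ⟨k, hk⟩ | ⟨k, hk⟩
  · exact Or.inr ⟨k, by have := orderOf_pos (t * u); omega, by omega⟩
  · refine Or.inl ⟨(k : ℤ), ?_⟩
    have h1 : t * (t * u) ^ (k : ℤ) * t⁻¹ = ((t * u) ^ (k : ℤ))⁻¹ := by
      rw [Invol.conj_zpow_of_inverts hinv, zpow_neg]
    have h2 : (t * u) ^ ((k : ℤ) + k) * (t * u) = 1 := by
      rw [← zpow_add_one, show (k : ℤ) + k + 1 = ((2 * k + 1 : ℕ) : ℤ) by push_cast; ring,
        zpow_natCast, ← hk, pow_orderOf_eq_one]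
    rw [← h1]
    calc (t * u) ^ (k : ℤ) * t * (t * (t * u) ^ (k : ℤ) * t⁻¹)
        = (t * u) ^ (k : ℤ) * (t * t) * (t * u) ^ (k : ℤ) * t⁻¹ := by group
      _ = (t * u) ^ ((k : ℤ) + k) * t⁻¹ := by rw [ht, mul_one, ← zpow_add]
      _ = (t * u)⁻¹ * t⁻¹ := by rw [eq_inv_of_mul_eq_one_left h2]
      _ = u := by
        rw [mul_inv_rev, inv_eq_of_mul_eq_one_right ht, inv_eq_of_mul_eq_one_right hu, mul_assoc,
          ht, mul_one]

/-- The hypotheses. -/
structure Setup (H A : Subgroup G) : Prop where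
  hAH : A < H
  hinvol : ∀ x ∈ H, x ∉ A → x * x = 1
  hidx : ∀ x ∈ H, x ∉ A → ∀ y ∈ H, y ∉ A → x * y ∈ A
  hinverts : ∀ x ∈ H, x ∉ A → ∀ a ∈ A, x * a * x⁻¹ = a⁻¹
  hbig : ∃ a ∈ A, a * a ≠ 1
  hcent : ∀ j ∈ A, j * j = 1 → j ≠ 1 → Subgroup.centralizer ({j} : Set G) = H
  hrank : ∃ z₁ z₂ : G, z₁ ∈ A ∧ z₁ * z₁ = 1 ∧ z₁ ≠ 1 ∧ z₂ ∈ A ∧ z₂ * z₂ = 1 ∧ z₂ ≠ 1 ∧ z₁ ≠ z₂
  hns : ¬ Group.IsSolvable G

/-- The involutions of `A`. -/
def IsZ (A : Subgroup G) (j : G) : Prop := j ∈ A ∧ j * j = 1 ∧ j ≠ 1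

/-- The elements of `H` outside `A`. -/
def Refl (H A : Subgroup G) (r : G) : Prop := r ∈ H ∧ r ∉ A

namespace Setup

variable {H A : Subgroup G} (s : Setup H A)

local notation "MM" => Subgroup.normalizer (H : Set G)
local notation "Ω" => G ⧸ Subgroup.normalizer (H : Set G)
local notation "o" => (QuotientGroup.mk 1 : Ω)

include s

theorem le : A ≤ H := s.hAH.le

theorem exists_refl : ∃ r, Refl H A r := SetLike.exists_of_lt s.hAH

theorem comm_A {a b : G} (ha : a ∈ A) (hb : b ∈ A) : Commute a b := by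
  obtain ⟨r, hr, hrA⟩ := s.exists_refl
  have h1 := s.hinverts r hr hrA (a * b) (A.mul_mem ha hb)
  have h2 : (a * b)⁻¹ = a⁻¹ * b⁻¹ := by
    rw [← h1, ← s.hinverts r hr hrA a ha, ← s.hinverts r hr hrA b hb]
    group
  rw [mul_inv_rev] at h2
  simpa using (show Commute b⁻¹ a⁻¹ from h2).inv_inv.symm

theorem refl_mul_A {r a : G} (hr : Refl H A r) (ha : a ∈ A) : Refl H A (r * a) :=
  ⟨H.mul_mem hr.1 (s.le ha), fun h => hr.2 ((A.mul_mem_cancel_right ha).mp h)⟩

theorem conj_A {x a : G} (hx : x ∈ H) (ha : a ∈ A) : x * a * x⁻¹ ∈ A := by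
  by_cases hxA : x ∈ A
  · exact A.mul_mem (A.mul_mem hxA ha) (A.inv_mem hxA)
  · rw [s.hinverts x hx hxA a ha]
    exact A.inv_mem ha

theorem isZ_commute {j x : G} (hj : IsZ A j) (hx : x ∈ H) : Commute x j := by
  rw [← s.hcent j hj.1 hj.2.1 hj.2.2] at hx
  exact Subgroup.mem_centralizer_singleton_iff.mp hx

theorem mem_of_commute {j x : G} (hj : IsZ A j) (hx : Commute x j) : x ∈ H := by
  rw [← s.hcent j hj.1 hj.2.1 hj.2.2]
  exact Subgroup.mem_centralizer_singleton_iff.mpr hx.eq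

theorem isZ_of_H {j : G} (hj : j ∈ A) (h2 : j * j = 1) (h1 : j ≠ 1) : IsZ A j := ⟨hj, h2, h1⟩

theorem refl_sq {r : G} (hr : Refl H A r) : r * r = 1 := s.hinvol r hr.1 hr.2

theorem refl_ne_one {r : G} (hr : Refl H A r) : r ≠ 1 := fun e => hr.2 (e ▸ A.one_mem)

/-- A conjugation carrying one involution of `A` to another normalizes `H`. -/
theorem mem_M_of_conj {j g : G} (hj : IsZ A j) (hg : IsZ A (g * j * g⁻¹)) : g ∈ MM := by
  rw [Subgroup.mem_normalizer_iff]
  intro h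
  constructor
  · intro hh
    refine s.mem_of_commute hg ?_
    exact (show Commute (g * h * g⁻¹) (g * j * g⁻¹) from
      (s.isZ_commute hj hh).map (MulAut.conj g).toMonoidHom)
  · intro hh
    refine s.mem_of_commute hj ?_
    have := (s.isZ_commute hg hh).map (MulAut.conj g⁻¹).toMonoidHom
    simpa [mul_assoc] using this

theorem M_conj_H {g h : G} (hg : g ∈ MM) (hh : h ∈ H) : g * h * g⁻¹ ∈ H := by
  have := (Subgroup.mem_normalizer_iff.mp hg h)
  exact this.mp hh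

theorem M_conj_A {g a : G} (hg : g ∈ MM) (ha : a ∈ A) : g * a * g⁻¹ ∈ A := by
  have key : ∀ b ∈ A, b * b ≠ 1 → g * b * g⁻¹ ∈ A := by
    intro b hb hb2
    by_contra hA
    have := s.hinvol _ (s.M_conj_H hg (s.le hb)) hA
    apply hb2
    calc b * b = g⁻¹ * ((g * b * g⁻¹) * (g * b * g⁻¹)) * g := by group
      _ = 1 := by rw [this]; group
  by_cases ha2 : a * a = 1
  · obtain ⟨b, hb, hb2⟩ := s.hbig
    have hab : a * b * (a * b) ≠ 1 := by
      rwa [show a * b * (a * b) = a * (b * a) * b by group, (s.comm_A hb ha).eq,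
        show a * (a * b) * b = a * a * (b * b) by group, ha2, one_mul]
    have h := A.mul_mem (key _ (A.mul_mem ha hb) hab) (A.inv_mem (key b hb hb2))
    rwa [show g * (a * b) * g⁻¹ * (g * b * g⁻¹)⁻¹ = g * a * g⁻¹ by group] at h
  · exact key a ha ha2

theorem M_conj_isZ {g j : G} (hg : g ∈ MM) (hj : IsZ A j) : IsZ A (g * j * g⁻¹) := by
  refine ⟨s.M_conj_A hg hj.1, ?_, fun e => hj.2.2 (conj_eq_one_iff.mp e)⟩
  calc g * j * g⁻¹ * (g * j * g⁻¹) = g * (j * j) * g⁻¹ := by group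
    _ = 1 := by rw [hj.2.1]; group

theorem exists_isZ : ∃ j, IsZ A j := by
  obtain ⟨z₁, z₂, h1, h1', h1'', -⟩ := s.hrank
  exact ⟨z₁, h1, h1', h1''⟩

/-- An element of `M` whose square is in `H` is in `H`. -/
theorem mem_H_of_sq {x : G} (hx : x ∈ MM) (hx2 : x * x ∈ H) : x ∈ H := by
  obtain ⟨j, hj⟩ := s.exists_isZ
  have hj' := s.M_conj_isZ hx hj
  by_cases he : x * j * x⁻¹ = j
  · exact s.mem_of_commute hj (mul_inv_eq_iff_eq_mul.mp he)
  · have hback : x * (x * j * x⁻¹) * x⁻¹ = j := by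
      rw [show x * (x * j * x⁻¹) * x⁻¹ = (x * x) * j * (x * x)⁻¹ by group,
        (s.isZ_commute hj hx2).eq, mul_inv_cancel_right]
    have hcomm := s.comm_A hj.1 hj'.1
    have hk : IsZ A (j * (x * j * x⁻¹)) := by
      refine ⟨A.mul_mem hj.1 hj'.1, ?_, fun e => he ?_⟩
      · calc j * (x * j * x⁻¹) * (j * (x * j * x⁻¹))
            = j * ((x * j * x⁻¹) * j) * (x * j * x⁻¹) := by group
          _ = j * (j * (x * j * x⁻¹)) * (x * j * x⁻¹) := by rw [hcomm.eq]
          _ = (j * j) * ((x * j * x⁻¹) * (x * j * x⁻¹)) := by group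
          _ = 1 := by rw [hj.2.1, hj'.2.1, one_mul]
      · exact (eq_inv_of_mul_eq_one_right e).trans (inv_eq_of_mul_eq_one_right hj.2.1)
    refine s.mem_of_commute hk (mul_inv_eq_iff_eq_mul.mp ?_)
    calc x * (j * (x * j * x⁻¹)) * x⁻¹ = (x * j * x⁻¹) * (x * (x * j * x⁻¹) * x⁻¹) := by group
      _ = (x * j * x⁻¹) * j := by rw [hback]
      _ = j * (x * j * x⁻¹) := hcomm.eq.symm

theorem mem_H_of_pow {x : G} (hx : x ∈ MM) : ∀ k : ℕ, x ^ 2 ^ k ∈ H → x ∈ H := by
  intro k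
  induction k with
  | zero => simp
  | succ k ih =>
    intro h
    refine ih (s.mem_H_of_sq ((MM).pow_mem hx _) ?_)
    rwa [← pow_add, ← two_mul, ← pow_succ']

theorem mem_H_of_invol {x : G} (hx : x ∈ MM) (hx2 : x * x = 1) : x ∈ H :=
  s.mem_H_of_sq hx (hx2 ▸ H.one_mem)

theorem le_M : H ≤ MM := Subgroup.le_normalizer

theorem smul_base_of_mem {g : G} (hg : g ∈ MM) : g • o = o :=
  (SEmb.smul_one_eq_iff g).mpr hg

theorem smul_base_of_H {g : G} (hg : g ∈ H) : g • o = o := s.smul_base_of_mem (s.le_M hg)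

/-- An involution of `A` fixes only the base point. -/
theorem isZ_fix {z : G} (hz : IsZ A z) {x : Ω} (hx : z • x = x) : x = o := by
  induction x using QuotientGroup.induction_on with
  | _ a =>
  rw [SEmb.smul_mk_eq_iff] at hx
  have hH : a⁻¹ * z * a ∈ H := s.mem_H_of_invol hx (by
    calc a⁻¹ * z * a * (a⁻¹ * z * a) = a⁻¹ * (z * z) * a := by group
      _ = 1 := by rw [hz.2.1]; group)
  have hconjH : ∀ j, IsZ A j → a * j * a⁻¹ ∈ H := by
    intro j hj
    refine s.mem_of_commute hz ?_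
    have := (s.isZ_commute hj hH).symm.map (MulAut.conj a).toMonoidHom
    simpa [mul_assoc] using this
  have key : ∃ j, IsZ A j ∧ a * j * a⁻¹ ∈ A := by
    obtain ⟨z₁, z₂, h1, h1', h1'', h2, h2', h2'', hne⟩ := s.hrank
    by_contra! hno
    have e1 := hno z₁ ⟨h1, h1', h1''⟩
    have e2 := hno z₂ ⟨h2, h2', h2''⟩
    have h12 : IsZ A (z₁ * z₂) := by
      refine ⟨A.mul_mem h1 h2, ?_, fun e => hne ?_⟩
      · rw [(s.comm_A h2 h1).mul_mul_mul_comm, h1', h2', one_mul]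
      · exact (eq_inv_of_mul_eq_one_left e).trans (inv_eq_of_mul_eq_one_right h2')
    refine hno _ h12 ?_
    have := s.hidx _ (hconjH z₁ ⟨h1, h1', h1''⟩) e1 _ (hconjH z₂ ⟨h2, h2', h2''⟩) e2
    rwa [show a * z₁ * a⁻¹ * (a * z₂ * a⁻¹) = a * (z₁ * z₂) * a⁻¹ by group] at this
  obtain ⟨j, hj, hjA⟩ := key
  have ha : a ∈ MM := s.mem_M_of_conj hj ⟨hjA, by
    calc a * j * a⁻¹ * (a * j * a⁻¹) = a * (j * j) * a⁻¹ := by group
      _ = 1 := by rw [hj.2.1]; group, fun e => hj.2.2 (conj_eq_one_iff.mp e)⟩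
  rw [QuotientGroup.eq, mul_one]
  exact (MM).inv_mem ha

theorem isZ_conj_fix {z g : G} (hz : IsZ A z) {x : Ω} (hx : (g * z * g⁻¹) • x = x) :
    x = g • o := by
  rw [mul_smul, mul_smul, smul_eq_iff_eq_inv_smul] at hx
  exact inv_smul_eq_iff.mp (s.isZ_fix hz hx)

theorem isZ_conj_smul {z : G} (hz : IsZ A z) (g : G) : (g * z * g⁻¹) • (g • o) = g • o := by
  rw [smul_smul, inv_mul_cancel_right, mul_smul, s.smul_base_of_H (s.le hz.1)]

/-- A conjugate of an involution of `A` which fixes the base point lies in `A`. -/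
theorem isZ_conj_of_fix {z g : G} (hz : IsZ A z) (h : (g * z * g⁻¹) • o = o) :
    g ∈ MM ∧ IsZ A (g * z * g⁻¹) := by
  have hg : g ∈ MM := (SEmb.smul_one_eq_iff g).mp (s.isZ_conj_fix hz h).symm
  exact ⟨hg, s.M_conj_isZ hg hz⟩

theorem refl_not_conj_isZ {r z g : G} (hr : Refl H A r) (hz : IsZ A z) : g * z * g⁻¹ ≠ r := by
  intro e
  refine hr.2 (e ▸ (s.isZ_conj_of_fix hz ?_).2.1)
  rw [e, s.smul_base_of_H hr.1]

/-- An involution of `H` centralizing no point but the base. -/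
theorem exists_fix_of_commute [Finite G] {i : G} (hi : i ∈ H) {y : G} (hy : Commute y i)
    (hy2 : ∀ x : Ω, i • x = x → y • y • x = x) : ∃ c : Ω, i • c = c ∧ y • c = c := by
  classical
  obtain ⟨z, hz⟩ := s.exists_isZ
  have := Fintype.ofFinite {x : Ω // i • x = x}
  let act : ∀ g : G, Commute g i → (∀ x : Ω, i • x = x → g • g • x = x) →
      Equiv.Perm {x : Ω // i • x = x} := fun g hg h2 =>
    Function.Involutive.toPerm (fun x => ⟨g • x.1, SEmb.smul_comm_fix x.2 hg⟩)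
      fun x => Subtype.ext (h2 x x.2)
  have hsq : ∀ g hg h2, act g hg h2 ^ 2 ^ 1 = 1 := fun g hg h2 =>
    Equiv.ext fun x => Subtype.ext (by rw [pow_one, pow_two]; exact h2 x x.2)
  have hzi : Commute z i := (s.isZ_commute hz hi).symm
  have hz2 : ∀ x : Ω, i • x = x → z • z • x = x := fun x _ => by
    rw [smul_smul, hz.2.1, one_smul]
  have hodd : ¬ 2 ∣ Fintype.card {x : Ω // i • x = x} := by
    intro h2
    obtain ⟨b, hb, hbo⟩ := Equiv.Perm.exists_fixed_point_of_prime' h2 (hsq z hzi hz2)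
      (a := ⟨o, s.smul_base_of_H hi⟩) (Subtype.ext (s.smul_base_of_H (s.le hz.1)))
    exact hbo (Subtype.ext (s.isZ_fix hz (congrArg Subtype.val hb)))
  obtain ⟨c, hc⟩ := Equiv.Perm.exists_fixed_point_of_prime hodd (hsq y hy hy2)
  exact ⟨c.1, c.2, congrArg Subtype.val hc⟩

/-- A reflection is not a square. -/
theorem no_sqrt [Finite G] {r x : G} (hr : Refl H A r) : x * x ≠ r := by
  intro e
  have hxr : Commute x r := e ▸ (Commute.refl x).mul_right (Commute.refl x)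
  obtain ⟨c, hrc, hxc⟩ := s.exists_fix_of_commute hr.1 hxr
    fun w hw => by rw [smul_smul, e, hw]
  obtain ⟨g, rfl⟩ := MulAction.exists_smul_eq G o c
  have hy : g⁻¹ * x * g ∈ MM := (SEmb.smul_one_eq_iff _).mp (by
    rw [mul_smul, mul_smul, hxc, inv_smul_smul])
  have hsq : g⁻¹ * x * g * (g⁻¹ * x * g) = g⁻¹ * r * g := by rw [← e]; group
  have hrH : g⁻¹ * r * g ∈ H := by
    refine s.mem_H_of_invol (hsq ▸ (MM).mul_mem hy hy) ?_
    calc g⁻¹ * r * g * (g⁻¹ * r * g) = g⁻¹ * (r * r) * g := by group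
      _ = 1 := by rw [s.refl_sq hr]; group
  have hyH := s.mem_H_of_sq hy (hsq ▸ hrH)
  have h1 : g⁻¹ * r * g ≠ 1 := fun e1 => s.refl_ne_one hr (by
    calc r = g * (g⁻¹ * r * g) * g⁻¹ := by group
      _ = 1 := by rw [e1]; group)
  by_cases hyA : g⁻¹ * x * g ∈ A
  · refine s.refl_not_conj_isZ hr (z := g⁻¹ * r * g) (g := g)
      ⟨hsq ▸ A.mul_mem hyA hyA, ?_, h1⟩ (by group)
    calc g⁻¹ * r * g * (g⁻¹ * r * g) = g⁻¹ * (r * r) * g := by group
      _ = 1 := by rw [s.refl_sq hr]; group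
  · exact h1 (hsq ▸ s.hinvol _ hyH hyA)

end Setup

end CfsgLib.DGroupCent
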