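import Cfsg.Agent.Lib.SEmb.ZassenhausSL2
import Cfsg.Agent.Lib.FT.Final

/-!
# A nonsolvable group with a self-centralizing elementary abelian four-subgroup or larger

If every nontrivial element of an elementary abelian `2`-subgroup `E` of order at least `4` has
centralizer `E`, then a nonsolvable group is `PSL(2,F)` for a field `F` of characteristic `2`.
-/

set_option autoImplicit false

namespace CfsgLib.DGroupCent

open Subgroup

theorem nonempty_equiv_PSL_of_elementary {G : Type*} [Group G] [Finite G] (E : Subgroup G)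
    (hsq : ∀ x ∈ E, x * x = 1) (h4 : 4 ≤ Nat.card E)
    (hC : ∀ j ∈ E, j ≠ 1 → Subgroup.centralizer ({j} : Set G) = E)
    (hns : ¬ Group.IsSolvable G) :
    ∃ (F : Type) (_ : Field F) (_ : Fintype F), 3 < Fintype.card F ∧
      Nonempty (G ≃* Matrix.ProjectiveSpecialLinearGroup (Fin 2) F) := by
  have : Fact (Nat.Prime 2) := ⟨Nat.prime_two⟩
  have hP : IsPGroup 2 E := fun g => ⟨1, Subtype.ext (by rw [pow_one, pow_two]; exact hsq g g.2)⟩
  obtain ⟨T, hT⟩ := hP.exists_le_sylow
  have : Nontrivial E := Finite.one_lt_card_iff_nontrivial.mp (by omega)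
  obtain ⟨⟨j, hjE⟩, hj1⟩ := exists_ne (1 : E)
  have hj : j ≠ 1 := fun e => hj1 (Subtype.ext e)
  -- `E` is a Sylow `2`-subgroup
  have hTE : (T : Subgroup G) = E := by
    have : Nontrivial (T : Subgroup G) := ⟨⟨⟨j, hT hjE⟩, 1, fun e => hj (congrArg Subtype.val e)⟩⟩
    have := T.isPGroup'.center_nontrivial
    obtain ⟨⟨⟨z, hzT⟩, hzc⟩, hz⟩ := exists_ne (1 : Subgroup.center (T : Subgroup G))
    have hz1 : z ≠ 1 := fun e => hz (Subtype.ext (Subtype.ext e))
    have hc : ∀ y ∈ (T : Subgroup G), y * z = z * y := fun y hy =>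
      congrArg Subtype.val (Subgroup.mem_center_iff.mp hzc ⟨y, hy⟩)
    have hzE : z ∈ E := by
      rw [← hC j hjE hj, Subgroup.mem_centralizer_singleton_iff]
      exact (hc j (hT hjE)).symm
    refine le_antisymm (fun y hy => ?_) hT
    rw [← hC z hzE hz1, Subgroup.mem_centralizer_singleton_iff]
    exact hc y hy
  have hcard : Nat.card T = Nat.card E :=
    Nat.card_congr (Equiv.subtypeEquivRight fun x => by rw [← hTE])
  have hE : CfsgLib.SEmb.ElemCent T := by
    refine ⟨fun hcyc => ?_, fun hn => ?_, fun t ht => ?_⟩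
    · rw [hTE] at hcyc
      obtain ⟨g, hg⟩ := IsCyclic.exists_ofOrder_eq_natCard (α := E)
      have h1 : orderOf g ∣ 2 :=
        orderOf_dvd_of_pow_eq_one (Subtype.ext (by rw [pow_two]; exact hsq g g.2))
      rw [hg] at h1
      have := Nat.le_of_dvd two_pos h1
      omega
    · have hodd : Odd (Nat.card (G ⧸ (T : Subgroup G))) := by
        rw [← Subgroup.index_eq_card, Nat.odd_iff, ← Nat.two_dvd_ne_zero]
        exact T.not_dvd_index
      have := T.isPGroup'.isNilpotent
      have : Group.IsSolvable (G ⧸ (T : Subgroup G)) := CfsgLib.FT.solvable_of_odd hodd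
      exact hns ((Group.isSolvable_iff_subgroup_quotient (T : Subgroup G)).mpr
        ⟨inferInstance, inferInstance⟩)
    · have hz : IsPGroup 2 (Subgroup.zpowers t) :=
        IsPGroup.of_card (n := 1) (by rw [Nat.card_zpowers, ht, pow_one])
      obtain ⟨P, hP'⟩ := hz.exists_le_sylow
      obtain ⟨g, hg⟩ := MulAction.exists_smul_eq G P T
      have hu : g * t * g⁻¹ ∈ E := by
        rw [← hTE, ← hg, Sylow.coe_subgroup_smul]
        exact ⟨t, hP' (Subgroup.mem_zpowers t), rfl⟩
      have hu1 : g * t * g⁻¹ ≠ 1 := fun e => by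
        rw [conj_eq_one_iff] at e
        rw [e, orderOf_one] at ht
        omega
      have hmem : ∀ c : G, c ∈ Subgroup.centralizer ({t} : Set G) → g * c * g⁻¹ ∈ E := by
        intro c hc
        rw [← hC _ hu hu1, Subgroup.mem_centralizer_singleton_iff]
        rw [Subgroup.mem_centralizer_singleton_iff] at hc
        calc g * c * g⁻¹ * (g * t * g⁻¹) = g * (c * t) * g⁻¹ := by group
          _ = g * (t * c) * g⁻¹ := by rw [hc]
          _ = _ := by group
      refine ⟨⟨⟨fun a b => Subtype.ext ?_⟩⟩, fun c hc => ?_⟩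
      · have ha := hmem a a.2
        have hb := hmem b b.2
        have hab := hsq _ (E.mul_mem ha hb)
        have : (g * a * g⁻¹) * (g * b * g⁻¹) = (g * b * g⁻¹) * (g * a * g⁻¹) := by
          calc (g * a * g⁻¹) * (g * b * g⁻¹)
              = ((g * a * g⁻¹) * (g * b * g⁻¹))⁻¹ := (inv_eq_of_mul_eq_one_right hab).symm
            _ = (g * b * g⁻¹)⁻¹ * (g * a * g⁻¹)⁻¹ := mul_inv_rev _ _
            _ = _ := by
              rw [inv_eq_of_mul_eq_one_right (hsq _ ha), inv_eq_of_mul_eq_one_right (hsq _ hb)]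
        rw [Subgroup.coe_mul, Subgroup.coe_mul]
        calc (a : G) * b = g⁻¹ * ((g * a * g⁻¹) * (g * b * g⁻¹)) * g := by group
          _ = g⁻¹ * ((g * b * g⁻¹) * (g * a * g⁻¹)) * g := by rw [this]
          _ = _ := by group
      · have := hsq _ (hmem c hc)
        calc c ^ 2 = g⁻¹ * ((g * c * g⁻¹) * (g * c * g⁻¹)) * g := by rw [pow_two]; simp only [mul_assoc, inv_mul_cancel_left, inv_mul_cancel, mul_one]
          _ = 1 := by rw [this]; group
  obtain ⟨F, instF, instFin, hF, h2, ⟨e⟩⟩ := hE.nonempty_equiv_SL2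
  refine ⟨F, instF, instFin, by omega, ⟨e.trans (MulEquiv.ofBijective
    (QuotientGroup.mk' (Subgroup.center (Matrix.SpecialLinearGroup (Fin 2) F)))
    ⟨?_, QuotientGroup.mk'_surjective _⟩)⟩⟩
  rw [← MonoidHom.ker_eq_bot_iff, QuotientGroup.ker_mk',
    CfsgLib.SEmb.ProjLine.center_eq_bot h2]

end CfsgLib.DGroupCent
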