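import Cfsg.Agent.Lib.DGroupCent.Basic
import Cfsg.Agent.Lib.Solvable.Core
import Cfsg.Agent.S3390

/-!
# A generalized dihedral involution centralizer of rank one

`H` is the centralizer of an involution `z`, `A` is a subgroup containing `z` as its only involution,
the elements of `H \ A` are involutions inverting `A`. We prove the first facts, pass to the quotient
by the core and determine the Sylow `2`-subgroups.
-/

set_option autoImplicit false
set_option linter.unusedSectionVars false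

namespace CfsgLib.DGroupCent

open Subgroup

variable {G : Type*} [Group G]

/-- The hypotheses of rank one. -/
structure One (H A : Subgroup G) (z : G) : Prop where
  hz : orderOf z = 2
  hzA : z ∈ A
  hAH : A < H
  hinvol : ∀ x ∈ H, x ∉ A → x * x = 1
  hidx : ∀ x ∈ H, x ∉ A → ∀ y ∈ H, y ∉ A → x * y ∈ A
  hinverts : ∀ x ∈ H, x ∉ A → ∀ a ∈ A, x * a * x⁻¹ = a⁻¹
  huniq : ∀ a ∈ A, a * a = 1 → a = 1 ∨ a = z
  hcent : Subgroup.centralizer ({z} : Set G) = H
  hns : ¬ Group.IsSolvable G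

namespace One

variable {H A : Subgroup G} {z : G} (s : One H A z)

include s

theorem le : A ≤ H := s.hAH.le

theorem z_sq : z * z = 1 := Invol.mul_self_eq_one s.hz

theorem z_ne : z ≠ 1 := fun e => by simpa [e] using s.hz

theorem exists_refl : ∃ r, r ∈ H ∧ r ∉ A := SetLike.exists_of_lt s.hAH

theorem comm_A {a b : G} (ha : a ∈ A) (hb : b ∈ A) : Commute a b := by
  obtain ⟨r, hr, hrA⟩ := s.exists_refl
  have h1 := s.hinverts r hr hrA (a * b) (A.mul_mem ha hb)
  have h2 : (a * b)⁻¹ = a⁻¹ * b⁻¹ := by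
    rw [← h1, ← s.hinverts r hr hrA a ha, ← s.hinverts r hr hrA b hb]
    group
  rw [mul_inv_rev] at h2
  simpa using (show Commute b⁻¹ a⁻¹ from h2).inv_inv.symm

theorem mem_H_iff {x : G} : x ∈ H ↔ Commute x z := by
  rw [← s.hcent]
  exact Subgroup.mem_centralizer_singleton_iff

theorem refl_ne_one {r : G} (hrA : r ∉ A) : r ≠ 1 := fun e => hrA (e ▸ A.one_mem)

theorem refl_orderOf {r : G} (hr : r ∈ H) (hrA : r ∉ A) : orderOf r = 2 :=
  Invol.orderOf_eq_two (s.refl_ne_one hrA) (s.hinvol r hr hrA)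

/-- The centralizer in `H` of an element outside `A` is a four group. -/
theorem commute_refl_cases {r x : G} (hr : r ∈ H) (hrA : r ∉ A) (hx : x ∈ H)
    (hc : Commute x r) : x = 1 ∨ x = z ∨ x = r ∨ x = r * z := by
  have key : ∀ a ∈ A, Commute a r → a = 1 ∨ a = z := fun a ha hca => by
    refine s.huniq a ha (eq_inv_iff_mul_eq_one.mp ?_)
    have h := s.hinverts r hr hrA a ha
    rwa [← hca.eq, mul_inv_cancel_right] at h
  by_cases hxA : x ∈ A
  · rcases key x hxA hc with h | h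
    · exact Or.inl h
    · exact Or.inr (Or.inl h)
  · have hrr := s.hinvol r hr hrA
    have hxe : x = r * (r * x) := by rw [← mul_assoc, hrr, one_mul]
    rcases key (r * x) (s.hidx r hr hrA x hx hxA) ((Commute.refl r).mul_left hc) with h | h
    · exact Or.inr (Or.inr (Or.inl (by rw [hxe, h, mul_one])))
    · exact Or.inr (Or.inr (Or.inr (by rw [hxe, h])))

theorem sq_eq_one_of_commute_refl {r x : G} (hr : r ∈ H) (hrA : r ∉ A) (hx : x ∈ H)
    (hc : Commute x r) : x * x = 1 := by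
  have hrz : Commute r z := s.mem_H_iff.mp hr
  rcases s.commute_refl_cases hr hrA hx hc with h | h | h | h <;> rw [h]
  · exact one_mul 1
  · exact s.z_sq
  · exact s.hinvol r hr hrA
  · rw [hrz.symm.mul_mul_mul_comm, s.hinvol r hr hrA, s.z_sq, one_mul]

/-- Passage to the quotient by the core. -/
theorem quotient [Finite G] (N : Subgroup G) [N.Normal] (hN : Odd (Nat.card N)) :
    One (H.map (QuotientGroup.mk' N)) (A.map (QuotientGroup.mk' N)) (QuotientGroup.mk' N z) := by
  obtain ⟨π, hπ⟩ : ∃ π, π = QuotientGroup.mk' N := ⟨_, rfl⟩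
  rw [← hπ]
  have hker : ∀ x : G, π x = 1 ↔ x ∈ N := fun x => by
    rw [hπ, QuotientGroup.mk'_apply, QuotientGroup.eq_one_iff]
  have hNodd : ∀ x ∈ N, Odd (orderOf x) := fun x hx =>
    hN.of_dvd_nat (Subgroup.orderOf_dvd_natCard N hx)
  have hno : ∀ x ∈ N, x * x = 1 → x = 1 := fun x hx hx2 => by
    by_contra h1
    have := hNodd x hx
    rw [Invol.orderOf_eq_two h1 hx2] at this
    exact absurd this (by decide)
  refine
    { hz := Invol.orderOf_eq_two (fun e => s.z_ne (hno z ((hker z).mp e) s.z_sq))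
        (by rw [← map_mul, s.z_sq, map_one])
      hzA := Subgroup.mem_map_of_mem π s.hzA
      hAH := ?_
      hinvol := ?_
      hidx := ?_
      hinverts := ?_
      huniq := ?_
      hcent := ?_
      hns := ?_ }
  · refine lt_of_le_of_ne (Subgroup.map_mono s.le) fun e => ?_
    obtain ⟨r, hr, hrA⟩ := s.exists_refl
    obtain ⟨a, ha, hra⟩ : π r ∈ A.map π := e ▸ Subgroup.mem_map_of_mem π hr
    have hk : a⁻¹ * r ∈ N := (hker _).mp (by rw [map_mul, map_inv, hra, inv_mul_cancel])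
    have hkA : a⁻¹ * r ∉ A := fun h => hrA ((A.mul_mem_cancel_left (A.inv_mem ha)).mp h)
    exact s.refl_ne_one hkA (hno _ hk (s.hinvol _ (H.mul_mem (H.inv_mem (s.le ha)) hr) hkA))
  · rintro _ ⟨x, hx, rfl⟩ hxA
    rw [← map_mul, s.hinvol x hx fun h => hxA (Subgroup.mem_map_of_mem π h), map_one]
  · rintro _ ⟨x, hx, rfl⟩ hxA _ ⟨y, hy, rfl⟩ hyA
    rw [← map_mul]
    exact Subgroup.mem_map_of_mem π (s.hidx x hx (fun h => hxA (Subgroup.mem_map_of_mem π h)) y hy
      fun h => hyA (Subgroup.mem_map_of_mem π h))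
  · rintro _ ⟨x, hx, rfl⟩ hxA _ ⟨a, ha, rfl⟩
    rw [← map_inv, ← map_mul, ← map_mul,
      s.hinverts x hx (fun h => hxA (Subgroup.mem_map_of_mem π h)) a ha, map_inv]
  · rintro _ ⟨a, ha, rfl⟩ h2
    obtain ⟨m, hm⟩ := hNodd _ ((hker _).mp ((map_mul π a a).trans h2))
    have hpow : (a ^ orderOf (a * a)) * (a ^ orderOf (a * a)) = 1 := by
      rw [← (Commute.refl a).mul_pow, pow_orderOf_eq_one]
    have hπa : π (a ^ orderOf (a * a)) = π a := by
      rw [map_pow, hm, pow_succ, pow_mul, pow_two, h2, one_pow, one_mul]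
    rcases s.huniq _ (A.pow_mem ha _) hpow with h | h
    · exact Or.inl (by rw [← hπa, h, map_one])
    · exact Or.inr (by rw [← hπa, h])
  · refine le_antisymm (fun q hq => ?_) ?_
    · obtain ⟨g, rfl⟩ : ∃ g, π g = q := by
        rw [hπ]; exact QuotientGroup.mk'_surjective N q
      rw [Subgroup.mem_centralizer_singleton_iff] at hq
      obtain ⟨u, hu⟩ : ∃ u, u = g * z * g⁻¹ := ⟨_, rfl⟩
      have hπu : π u = π z := by rw [hu, map_mul, map_mul, map_inv, hq, mul_inv_cancel_right]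
      have hu2 : u * u = 1 := by
        rw [hu]
        calc g * z * g⁻¹ * (g * z * g⁻¹) = g * (z * z) * g⁻¹ := by group
          _ = 1 := by rw [s.z_sq]; group
      have hzu : z * u ∈ N := (hker _).mp (by rw [map_mul, hπu, ← map_mul, s.z_sq, map_one])
      rcases conj_or_even s.z_sq hu2 with ⟨n, hn⟩ | ⟨k, hk0, hk⟩
      · refine ⟨((z * u) ^ n)⁻¹ * g, s.mem_H_iff.mpr (mul_inv_eq_iff_eq_mul.mp ?_), ?_⟩
        · calc ((z * u) ^ n)⁻¹ * g * z * (((z * u) ^ n)⁻¹ * g)⁻¹
              = ((z * u) ^ n)⁻¹ * u * (z * u) ^ n := by rw [hu]; group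
            _ = ((z * u) ^ n)⁻¹ * ((z * u) ^ n * z * ((z * u) ^ n)⁻¹) * (z * u) ^ n := by rw [hn]
            _ = z := by group
        · rw [map_mul, map_inv, (hker _).mpr (zpow_mem hzu n), inv_one, one_mul]
      · exact absurd (hk ▸ hNodd _ hzu) (by simp)
    · rintro _ ⟨x, hx, rfl⟩
      rw [Subgroup.mem_centralizer_singleton_iff, ← map_mul, (s.mem_H_iff.mp hx).eq, map_mul]
  · intro hsol
    have : Group.IsSolvable N := CfsgLib.FT.solvable_of_odd hN
    exact s.hns ((Group.isSolvable_iff_subgroup_quotient N).mpr ⟨this, hsol⟩)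

variable [Finite G]

/-- A Sylow `2`-subgroup containing `z` and a reflection lies in `H` or meets it in a four group. -/
theorem sylow_cases (S : Sylow 2 G) {r : G} (hzS : z ∈ (S : Subgroup G))
    (hrS : r ∈ (S : Subgroup G)) (hr : r ∈ H) (hrA : r ∉ A) :
    (S : Subgroup G) ≤ H ∨
      ∀ x ∈ (S : Subgroup G), Commute x z → x = 1 ∨ x = z ∨ x = r ∨ x = r * z := by
  by_contra! hcon
  obtain ⟨hle, y, hyS, hyz, hy1, hy2, hy3, hy4⟩ := hcon
  have : Fact (Nat.Prime 2) := ⟨Nat.prime_two⟩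
  have : Group.IsNilpotent (S : Subgroup G) := S.isPGroup'.isNilpotent
  have hlt : H.subgroupOf (S : Subgroup G) < ⊤ :=
    lt_top_iff_ne_top.mpr fun h => hle (Subgroup.subgroupOf_eq_top.mp h)
  obtain ⟨⟨x, hxS⟩, hxn, hxH⟩ :=
    SetLike.exists_of_lt (Group.normalizerCondition_of_isNilpotent (H.subgroupOf (S : Subgroup G)) hlt)
  rw [Subgroup.mem_normalizer_iff] at hxn
  have hconj : ∀ w ∈ (S : Subgroup G), w ∈ H → x * w * x⁻¹ ∈ H := fun w hwS hwH =>
    (hxn ⟨w, hwS⟩).mp hwH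
  have hback : ∀ w ∈ (S : Subgroup G), w ∈ H → x⁻¹ * w * x ∈ H := fun w hwS hwH => by
    have := (hxn ⟨x⁻¹ * w * x,
      mul_mem (mul_mem (inv_mem hxS) hwS) hxS⟩).mpr (show x * (x⁻¹ * w * x) * x⁻¹ ∈ H by
        rw [show x * (x⁻¹ * w * x) * x⁻¹ = w by group]; exact hwH)
    exact this
  -- the image of `z` is central in `S ∩ H`
  have hcen : ∀ w ∈ (S : Subgroup G), w ∈ H → Commute w (x * z * x⁻¹) := by
    intro w hwS hwH
    have := (s.mem_H_iff.mp (hback w hwS hwH)).map (MulAut.conj x).toMonoidHom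
    simpa [mul_assoc] using this
  have hyH : y ∈ H := s.mem_H_iff.mpr hyz
  rcases s.commute_refl_cases hr hrA (hconj z hzS (s.le s.hzA)) (hcen r hrS hr).symm
    with h | h | h | h
  · exact s.z_ne (conj_eq_one_iff.mp h)
  · exact hxH (s.mem_H_iff.mpr (mul_inv_eq_iff_eq_mul.mp h))
  · rcases s.commute_refl_cases hr hrA hyH (h ▸ hcen y hyS hyH) with e | e | e | e <;> contradiction
  · have hyr : Commute y r := by
      have := (h ▸ hcen y hyS hyH : Commute y (r * z)).mul_right hyz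
      rwa [mul_assoc, s.z_sq, mul_one] at this
    rcases s.commute_refl_cases hr hrA hyH hyr with e | e | e | e <;> contradiction

/-- A four-group `⟨z, r⟩` lies in some Sylow `2`-subgroup. -/
theorem exists_sylow :
    ∃ (S : Sylow 2 G) (r : G), r ∈ H ∧ r ∉ A ∧ z ∈ (S : Subgroup G) ∧ r ∈ (S : Subgroup G) := by
  obtain ⟨r, hr, hrA⟩ := s.exists_refl
  have hrz := s.mem_H_iff.mp hr
  let V : Subgroup G := Subgroup.closure {z, r}
  have hV : ∀ x ∈ V, x * x = 1 ∧ x ∈ H ∧ Commute x r := by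
    intro x hx
    suffices x ∈ H ∧ Commute x r from ⟨s.sq_eq_one_of_commute_refl hr hrA this.1 this.2, this⟩
    have : V ≤ H ⊓ Subgroup.centralizer ({r} : Set G) := by
      rw [Subgroup.closure_le]
      rintro w (rfl | rfl)
      · exact ⟨s.le s.hzA, Subgroup.mem_centralizer_singleton_iff.mpr hrz.symm.eq⟩
      · exact ⟨hr, Subgroup.mem_centralizer_singleton_iff.mpr rfl⟩
    exact ⟨(this hx).1, Subgroup.mem_centralizer_singleton_iff.mp (this hx).2⟩
  have hP : IsPGroup 2 V := fun x => ⟨1, Subtype.ext (by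
    rw [pow_one, pow_two]; exact (hV x x.2).1)⟩
  obtain ⟨S, hS⟩ := hP.exists_le_sylow
  exact ⟨S, r, hr, hrA, hS (Subgroup.subset_closure (Or.inl rfl)),
    hS (Subgroup.subset_closure (Or.inr rfl))⟩

/-- The Sylow `2`-subgroups are dihedral or semidihedral. -/
theorem sylow_type (S : Sylow 2 G) {r : G} (hzS : z ∈ (S : Subgroup G))
    (hrS : r ∈ (S : Subgroup G)) (hr : r ∈ H) (hrA : r ∉ A) :
    (∃ n : ℕ, 2 ≤ n ∧ Nonempty ((S : Subgroup G) ≃* DihedralGroup n)) ∨
      Cfsg.IsQuasiDihedral (S : Subgroup G) := by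
  have : Fact (Nat.Prime 2) := ⟨Nat.prime_two⟩
  have hrz := s.mem_H_iff.mp hr
  have hne : z ≠ r := fun e => hrA (e ▸ s.hzA)
  have h4 : 4 ≤ Nat.card (S : Subgroup G) := by
    refine le_trans ?_ (Nat.card_le_card_of_injective
      (![⟨1, one_mem _⟩, ⟨z, hzS⟩, ⟨r, hrS⟩, ⟨r * z, mul_mem hrS hzS⟩] : Fin 4 → (S : Subgroup G)) ?_)
    · simp
    · have h1 : r * z ≠ 1 := fun e => hne ((eq_inv_of_mul_eq_one_right e).trans
        (inv_eq_of_mul_eq_one_right (s.hinvol r hr hrA)))
      intro i j e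
      have e' := congrArg Subtype.val e
      fin_cases i <;> fin_cases j <;>
        simp [s.z_ne, s.z_ne.symm, s.refl_ne_one hrA, (s.refl_ne_one hrA).symm, hne, hne.symm, h1,
          h1.symm] at e' ⊢
  obtain ⟨t, e, ht, he, htS, heS, hte, hcom, hfour⟩ : ∃ t e : G, orderOf t = 2 ∧ orderOf e = 2 ∧
      t ∈ (S : Subgroup G) ∧ e ∈ (S : Subgroup G) ∧ t ≠ e ∧ Commute t e ∧
      ∀ x ∈ (S : Subgroup G), Commute x t → x = 1 ∨ x = z ∨ x = r ∨ x = r * z := by
    rcases s.sylow_cases S hzS hrS hr hrA with hle | hfour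
    · exact ⟨r, z, s.refl_orderOf hr hrA, s.hz, hrS, hzS, hne.symm, hrz,
        fun x hx hc => s.commute_refl_cases hr hrA (hle hx) hc⟩
    · exact ⟨z, r, s.hz, s.refl_orderOf hr hrA, hzS, hrS, hne, hrz.symm, hfour⟩
  have hc : Nat.card (Subgroup.centralizer ({(⟨t, htS⟩ : (S : Subgroup G))} :
      Set (S : Subgroup G))) ≤ 4 := by
    have hall : ∀ x : Subgroup.centralizer ({(⟨t, htS⟩ : (S : Subgroup G))} :
        Set (S : Subgroup G)), ∃ i : Fin 4, ((x : (S : Subgroup G)) : G) = ![1, z, r, r * z] i := by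
      intro x
      rcases hfour _ (x : (S : Subgroup G)).2 (congrArg Subtype.val
        (Subgroup.mem_centralizer_singleton_iff.mp x.2)) with h | h | h | h
      exacts [⟨0, h⟩, ⟨1, h⟩, ⟨2, h⟩, ⟨3, h⟩]
    choose f hf using hall
    refine (Nat.card_le_card_of_injective f fun x y e => ?_).trans (by simp)
    exact Subtype.ext (Subtype.ext ((hf x).trans (e ▸ (hf y).symm)))
  rcases Cfsg.Agent.S3390.dihedral_of_small S.isPGroup' h4
      (t := ⟨t, htS⟩) (e := ⟨e, heS⟩) ((Subgroup.orderOf_mk t htS).trans ht)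
      ((Subgroup.orderOf_mk e heS).trans he) (fun h => hte (congrArg Subtype.val h))
      (Subtype.ext hcom.eq) hc with ⟨n, ⟨φ⟩⟩ | h
  · refine Or.inl ⟨n, ?_, ⟨φ⟩⟩
    have hc2 := Nat.card_congr φ.toEquiv
    by_contra hn
    interval_cases n
    · have := Nat.card_eq_zero_of_infinite (α := DihedralGroup 0)
      omega
    · rw [hc2, DihedralGroup.nat_card] at h4
      omega
  · exact Or.inr h

end One

end CfsgLib.DGroupCent
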