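import Cfsg.Agent.Lib.DGroupCent.One
import Cfsg.Agent.Lib.GW.Reduce
import Cfsg.Agent.Lib.TwoFusion.DihedralIso
import Mathlib.GroupTheory.GroupAction.ConjAct

/-!
# The perfect core of a group with dihedral Sylow 2-subgroups and trivial core

In a nonsolvable group with trivial core and dihedral Sylow `2`-subgroups the perfect core `X` is
simple, has dihedral Sylow `2`-subgroups, one class of involutions and trivial centralizer.
-/

set_option autoImplicit false
set_option linter.unusedSectionVars false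

namespace CfsgLib.DGroupCent

open Subgroup CfsgLib.TwoFusion.DihedralFusion

variable {G : Type*} [Group G] [Finite G]

theorem exists_perfect_normal (hns : ¬ Group.IsSolvable G) :
    ∃ X : Subgroup G, X.Normal ∧ ⁅X, X⁆ = X ∧ X ≠ ⊥ := by
  obtain ⟨n, hn⟩ : ∃ n, derivedSeries G (n + 1) = derivedSeries G n := by
    by_contra! hno
    have hlt : StrictAnti (derivedSeries G) := strictAnti_nat_of_succ_lt fun n =>
      lt_of_le_of_ne (derivedSeries_antitone G n.le_succ) (hno n)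
    exact not_injective_infinite_finite _ hlt.injective
  exact ⟨derivedSeries G n, derivedSeries_normal G n, by rw [← derivedSeries_succ, hn],
    fun h => hns ⟨⟨n, h⟩⟩⟩

/-- An involutory automorphism without fixed points on a subgroup inverts it. -/
theorem inverts_of_fpf {U : Subgroup G} {t : G} (ht : t * t = 1)
    (hU : ∀ x ∈ U, t * x * t⁻¹ ∈ U) (hfix : ∀ x ∈ U, Commute x t → x = 1) :
    ∀ x ∈ U, t * x * t⁻¹ = x⁻¹ := by
  intro x hx
  let f : U → U := fun y => ⟨(y : G)⁻¹ * (t * y * t⁻¹), U.mul_mem (U.inv_mem y.2) (hU y y.2)⟩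
  have hinj : Function.Injective f := by
    intro y w e
    have e' : (y : G)⁻¹ * (t * y * t⁻¹) = (w : G)⁻¹ * (t * w * t⁻¹) := congrArg Subtype.val e
    have h1 : (w : G) * (y : G)⁻¹ = t * (w * (y : G)⁻¹) * t⁻¹ := by
      calc (w : G) * (y : G)⁻¹ = w * ((y : G)⁻¹ * (t * y * t⁻¹)) * (t * y * t⁻¹)⁻¹ := by group
        _ = w * ((w : G)⁻¹ * (t * w * t⁻¹)) * (t * y * t⁻¹)⁻¹ := by rw [e']
        _ = t * (w * (y : G)⁻¹) * t⁻¹ := by group
    refine Subtype.ext (mul_inv_eq_one.mp (hfix _ (U.mul_mem w.2 (U.inv_mem y.2)) ?_)).symm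
    exact (eq_mul_inv_iff_mul_eq.mp h1)
  obtain ⟨y, hy⟩ := Finite.surjective_of_injective hinj ⟨x, hx⟩
  have hy' : (y : G)⁻¹ * (t * y * t⁻¹) = x := congrArg Subtype.val hy
  rw [← hy']
  calc t * ((y : G)⁻¹ * (t * y * t⁻¹)) * t⁻¹ = (t * y * t⁻¹)⁻¹ * ((t * t) * y * (t * t)⁻¹) := by group
    _ = ((y : G)⁻¹ * (t * y * t⁻¹))⁻¹ := by rw [ht]; group

/-- A perfect core: a nontrivial perfect normal subgroup. -/
structure Core (X : Subgroup G) : Prop where
  normal : X.Normal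
  perfect : ⁅X, X⁆ = X
  ne_bot : X ≠ ⊥
  oddCore : Cfsg.oddCore G = ⊥

namespace Core

variable {X : Subgroup G} (hX : Core X) {S : Sylow 2 G}

include hX

theorem isPerfect : Group.IsPerfect X := Subgroup.isPerfect_iff.mpr hX.perfect

theorem nontrivial : Nontrivial X := (Subgroup.nontrivial_iff_ne_bot X).mpr hX.ne_bot

theorem oddCore_eq_bot : Cfsg.oddCore X = ⊥ := by
  have := hX.normal
  have hc : (Cfsg.oddCore X).Characteristic := CfsgLib.Solvable.pPrimeCore_characteristic 2 X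
  have hle : (Cfsg.oddCore X).map X.subtype ≤ Cfsg.oddCore G :=
    CfsgLib.Solvable.le_pPrimeCore inferInstance (by
      rw [Subgroup.card_map_of_injective X.subtype_injective]
      exact CfsgLib.Solvable.pPrimeCore_card_coprime 2 X)
  rw [hX.oddCore, le_bot_iff] at hle
  exact (Subgroup.map_eq_bot_iff_of_injective _ X.subtype_injective).mp hle

theorem eq_one_of_odd (N : Subgroup G) [N.Normal] (hN : Odd (Nat.card N)) : N = ⊥ := by
  refine le_bot_iff.mp (hX.oddCore ▸ CfsgLib.Solvable.le_pPrimeCore inferInstance ?_)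
  exact (Nat.coprime_two_right.mpr hN)

theorem exists_sylow (S : Sylow 2 G) :
    ∃ T : Sylow 2 X, (T : Subgroup X) = ((S : Subgroup G) ⊓ X).subgroupOf X := by
  have := hX.normal
  have : Fact (Nat.Prime 2) := ⟨Nat.prime_two⟩
  have h2 : IsPGroup 2 (((S : Subgroup G) ⊓ X).subgroupOf X) :=
    (S.isPGroup'.to_le inf_le_left).of_equiv (Subgroup.subgroupOfEquivOfLe inf_le_right).symm
  refine ⟨h2.toSylow fun h => ?_, rfl⟩
  exact (Nat.not_even_iff_odd.mpr (TwoFusion.FusionTools.odd_relIndex_inf (S : Subgroup G) X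
    (TwoFusion.FusionTools.sylow_index_odd S))) (even_iff_two_dvd.mpr h)

theorem not_cyclic (S : Sylow 2 G) : ¬ IsCyclic ((S : Subgroup G) ⊓ X : Subgroup G) := by
  intro hc
  obtain ⟨T, hT⟩ := hX.exists_sylow S
  have hTc : IsCyclic ((T : Subgroup X) ⊓ ⊤ : Subgroup X) := by
    rw [inf_top_eq, hT]
    exact (Subgroup.subgroupOfEquivOfLe inf_le_right).isCyclic.mpr hc
  obtain ⟨P, N, hN, hcomp⟩ := TwoFusion.FusionTools.hasNormalPComplement_of_cyclic T ⊤ (k := 0)
    (by rw [Subgroup.index_top, pow_zero]) hTc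
  have hodd : Odd (Nat.card N) := by
    rw [← hcomp.index_eq_card]
    exact TwoFusion.FusionTools.sylow_index_odd P
  have := hX.isPerfect
  have := hX.nontrivial
  refine Group.IsPerfect.not_isSolvable X ((Group.isSolvable_iff_subgroup_quotient N).mpr
    ⟨CfsgLib.FT.solvable_of_odd hodd, ?_⟩)
  have : Fact (Nat.Prime 2) := ⟨Nat.prime_two⟩
  obtain ⟨j, hj⟩ := IsPGroup.iff_card.mp P.isPGroup'
  have hp : IsPGroup 2 (X ⧸ N) := IsPGroup.of_card (n := j) (by
    rw [← Subgroup.index_eq_card, hcomp.symm.index_eq_card, hj])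
  have := hp.isNilpotent
  infer_instance

variable (D : DihGens (S : Subgroup G))

/-- The intersection of `X` with a dihedral Sylow subgroup. -/
theorem inf_cases :
    (S : Subgroup G) ≤ X ∨ ∃ i : ℤ, 1 ≤ D.k ∧ D.a ^ i * D.b ∈ X ∧ D.a ^ (2 : ℤ) ∈ X ∧
      (∀ n : ℤ, D.a ^ n ∈ X ↔ Even n) ∧ ∀ j : ℤ, D.a ^ j * D.b ∈ X ↔ Even (j - i) := by
  have := hX.normal
  obtain ⟨i, hi⟩ : ∃ i : ℤ, D.a ^ i * D.b ∈ X := by
    by_contra! h
    have hle : (S : Subgroup G) ⊓ X ≤ zpowers D.a := by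
      rintro x ⟨hxS, hxX⟩
      obtain ⟨j, rfl | rfl⟩ := D.cases x hxS
      · exact Subgroup.zpow_mem _ (mem_zpowers _) _
      · exact absurd hxX (h j)
    exact hX.not_cyclic S (Subgroup.isCyclic_of_le hle)
  have ha2 : D.a ^ (2 : ℤ) ∈ X := by
    have h := X.mul_mem (hX.normal.conj_mem _ hi D.a) hi
    have e : D.a * (D.a ^ i * D.b) * D.a⁻¹ = D.a ^ (i + 2) * D.b := by
      rw [← zpow_neg_one, mul_assoc, mul_assoc, D.b_mul_zpow, ← mul_assoc, ← mul_assoc]
      group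
    rwa [e, D.refl_mul_refl, add_sub_cancel_left] at h
  by_cases haX : D.a ∈ X
  · left
    have hb : D.b ∈ X := by
      have := X.mul_mem (X.inv_mem (X.zpow_mem haX i)) hi
      rwa [inv_mul_cancel_left] at this
    intro x hx
    obtain ⟨j, rfl | rfl⟩ := D.cases x hx
    exacts [X.zpow_mem haX j, X.mul_mem (X.zpow_mem haX j) hb]
  right
  have hev : ∀ n : ℤ, D.a ^ n ∈ X ↔ Even n := by
    intro n
    refine ⟨fun h => ?_, ?_⟩
    · by_contra hn
      obtain ⟨m, rfl⟩ := Int.not_even_iff_odd.mp hn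
      rw [zpow_add_one, zpow_mul] at h
      exact haX ((X.mul_mem_cancel_left (X.zpow_mem ha2 m)).mp h)
    · rintro ⟨m, rfl⟩
      rw [← two_mul, zpow_mul]
      exact X.zpow_mem ha2 m
  have hrefl : ∀ j : ℤ, D.a ^ j * D.b ∈ X ↔ Even (j - i) := by
    intro j
    rw [← hev, ← D.refl_mul_refl]
    exact (X.mul_mem_cancel_right hi).symm
  refine ⟨i, ?_, hi, ha2, hev, hrefl⟩
  by_contra hk
  have hk0 : D.k = 0 := by omega
  have ha1 : ∀ n : ℤ, Even n → D.a ^ n = 1 := fun n hn => by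
    rw [D.zpow_eq_one_iff, hk0]
    simpa using hn.two_dvd
  refine hX.not_cyclic S (Subgroup.isCyclic_of_le
    (show (S : Subgroup G) ⊓ X ≤ zpowers (D.a ^ i * D.b) from ?_))
  rintro x ⟨hxS, hxX⟩
  obtain ⟨j, rfl | rfl⟩ := D.cases x hxS
  · rw [ha1 j ((hev j).mp hxX)]
    exact Subgroup.one_mem _
  · rw [show D.a ^ j * D.b = D.a ^ (j - i) * (D.a ^ i * D.b) by
      rw [← mul_assoc, ← zpow_add, sub_add_cancel], ha1 _ ((hrefl j).mp hxX), one_mul]
    exact mem_zpowers _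

include D in
/-- The Sylow subgroups of `X` are dihedral. -/
theorem sylow_dihedral (T : Sylow 2 X)
    (hT : (T : Subgroup X) = ((S : Subgroup G) ⊓ X).subgroupOf X) (m : ℕ) (hm : 2 ≤ m)
    (e : (S : Subgroup G) ≃* DihedralGroup m) :
    ∃ n : ℕ, 2 ≤ n ∧ Nonempty ((T : Subgroup X) ≃* DihedralGroup n) := by
  have e₁ : (T : Subgroup X) ≃* ((S : Subgroup G) ⊓ X : Subgroup G) :=
    (MulEquiv.subgroupCongr hT).trans (Subgroup.subgroupOfEquivOfLe inf_le_right)
  rcases hX.inf_cases D with hle | ⟨i, hk, -, -, hev, hrefl⟩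
  · exact ⟨m, hm, ⟨e₁.trans ((MulEquiv.subgroupCongr (inf_eq_left.mpr hle)).trans e)⟩⟩
  · refine ⟨2 ^ D.k, Nat.le_self_pow (by omega) 2, ?_⟩
    have hnat : D.a ^ (2 : ℤ) = D.a ^ 2 := zpow_natCast _ 2
    obtain ⟨φ⟩ := CfsgLib.TwoFusion.exists_dihedral_mulEquiv (pow_pos two_pos D.k)
      (a := D.a ^ (2 : ℤ)) (b := D.a ^ i * D.b)
      (by rw [hnat, orderOf_pow_of_dvd two_ne_zero (D.order_a ▸ dvd_pow_self 2 (by omega)),
        D.order_a, pow_succ, Nat.mul_div_cancel _ two_pos])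
      (D.refl_sq i)
      (by
        rw [← conj_zpow, show D.a ^ i * D.b * D.a * (D.a ^ i * D.b)⁻¹ =
          D.a ^ i * (D.b * D.a * D.b⁻¹) * (D.a ^ i)⁻¹ by group, D.inv]
        group)
      (fun h => by
        obtain ⟨j, hj⟩ := mem_zpowers_iff.mp h
        exact D.refl_not_mem_rot i ⟨2 * j, by simpa [zpow_mul] using hj⟩)
      ((S : Subgroup G) ⊓ X) (fun g => by
        constructor
        · rintro ⟨hgS, hgX⟩
          obtain ⟨j, rfl | rfl⟩ := D.cases g hgS
          · obtain ⟨t, rfl⟩ := (hev j).mp hgX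
            exact ⟨t, Or.inl (by rw [← zpow_mul, two_mul])⟩
          · obtain ⟨t, ht⟩ := (hrefl j).mp hgX
            refine ⟨-t, Or.inr ?_⟩
            rw [← zpow_mul, mul_assoc, D.b_mul_zpow, ← mul_assoc, ← zpow_add]
            congr 2
            linarith
        · rintro ⟨t, rfl | rfl⟩
          · rw [← zpow_mul]
            exact ⟨(S : Subgroup G).zpow_mem D.ha _, (hev _).mpr (even_two_mul t)⟩
          · rw [← zpow_mul, mul_assoc, D.b_mul_zpow, ← mul_assoc, ← zpow_add]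
            exact ⟨D.refl_mem _, (hrefl _).mpr ⟨-t, by ring⟩⟩)
    exact ⟨e₁.trans φ⟩

include D in
theorem structure_facts : IsSimpleGroup X ∧ ¬ IsMulCommutative X ∧
    (∀ u ∈ X, ∀ v ∈ X, orderOf u = 2 → orderOf v = 2 → ∃ g ∈ X, g * u * g⁻¹ = v) := by
  obtain ⟨T, hT⟩ := hX.exists_sylow S
  obtain ⟨n, hn, ⟨e⟩⟩ : ∃ n : ℕ, 2 ≤ n ∧ Nonempty ((T : Subgroup X) ≃* DihedralGroup n) := by
    have : NeZero (2 ^ (D.k + 1)) := ⟨by positivity⟩
    obtain ⟨φ⟩ := CfsgLib.TwoFusion.exists_dihedral_mulEquiv (pow_pos two_pos (D.k + 1)) D.order_a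
      D.b_sq D.inv D.b_not_mem (S : Subgroup G) (fun g => by
        constructor
        · intro hg
          obtain ⟨j, rfl | rfl⟩ := D.cases g hg
          · exact ⟨j, Or.inl rfl⟩
          · exact ⟨-j, Or.inr (by rw [D.b_mul_zpow, neg_neg])⟩
        · rintro ⟨j, rfl | rfl⟩
          exacts [(S : Subgroup G).zpow_mem D.ha j,
            (S : Subgroup G).mul_mem D.hb ((S : Subgroup G).zpow_mem D.ha j)])
    exact hX.sylow_dihedral D T hT _ (Nat.le_self_pow (by omega) 2) φ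
  have := hX.isPerfect
  obtain ⟨h1, h2⟩ := CfsgLib.GW.isSimple hX.oddCore_eq_bot T n hn e
  refine ⟨h1, h2, fun u hu v hv hu2 hv2 => ?_⟩
  obtain ⟨g, hg⟩ := isConj_iff.mp (CfsgLib.GW.one_class T n hn e (a := ⟨u, hu⟩) (b := ⟨v, hv⟩)
    ((Subgroup.orderOf_mk u hu).trans hu2) ((Subgroup.orderOf_mk v hv).trans hv2))
  exact ⟨g, g.2, congrArg Subtype.val hg⟩

include D in
theorem centralizer_eq_bot : Subgroup.centralizer (X : Set G) = ⊥ := by
  have := hX.normal
  obtain ⟨i, hiX⟩ : ∃ i : ℤ, D.a ^ i * D.b ∈ X := by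
    rcases hX.inf_cases D with h | ⟨i, -, hi, -⟩
    exacts [⟨0, h (D.refl_mem 0)⟩, ⟨i, hi⟩]
  obtain ⟨hsimple, hnc, -⟩ := hX.structure_facts D
  have hZ : ∀ w ∈ X, w ∈ Subgroup.centralizer (X : Set G) → w = 1 := by
    intro w hw hwc
    have hc : (⟨w, hw⟩ : X) ∈ Subgroup.center X := Subgroup.mem_center_iff.mpr fun v =>
      Subtype.ext (Subgroup.mem_centralizer_iff.mp hwc v v.2)
    rcases hsimple.eq_bot_or_eq_top_of_normal (Subgroup.center X) inferInstance with h | h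
    · rw [h, Subgroup.mem_bot] at hc
      exact congrArg Subtype.val hc
    · exact absurd ⟨⟨fun u v => Subgroup.mem_center_iff.mp (h ▸ mem_top v) u⟩⟩ hnc
  refine hX.eq_one_of_odd _ ?_
  rw [← Nat.not_even_iff_odd, even_iff_two_dvd]
  intro h2
  have : Fact (Nat.Prime 2) := ⟨Nat.prime_two⟩
  obtain ⟨⟨t, htC⟩, ht⟩ := exists_prime_orderOf_dvd_card' (G := Subgroup.centralizer (X : Set G)) 2 h2
  rw [Subgroup.orderOf_mk] at ht
  obtain ⟨g, hg⟩ := TwoFusion.FusionTools.exists_conj_mem_sylow S t (d := 1) (by rw [ht, pow_one])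
  have hgC : g * t * g⁻¹ ∈ Subgroup.centralizer (X : Set G) :=
    (inferInstance : (Subgroup.centralizer (X : Set G)).Normal).conj_mem _ htC g
  have hmem : g * t * g⁻¹ ∈ D.four i := centralizer_four D i hg
    (Subgroup.mem_centralizer_iff.mp hgC _ hiX).symm
  have hz : D.z ∈ X := by
    rcases hX.inf_cases D with h | ⟨i', hk, -, -, hev, -⟩
    · exact h D.z_mem_S
    · exact (hev _).mpr (by
        refine ⟨2 ^ (D.k - 1), ?_⟩
        rw [← two_mul, ← pow_succ', show D.k - 1 + 1 = D.k by omega]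
        push_cast
        rfl)
  have hX4 : g * t * g⁻¹ ∈ X := by
    rcases D.mem_four.mp hmem with h | h | h | h <;> rw [h]
    exacts [X.one_mem, hz, hiX, X.mul_mem hz hiX]
  have h1 := hZ _ hX4 hgC
  rw [conj_eq_one_iff] at h1
  rw [h1, orderOf_one] at ht
  omega

end Core

end CfsgLib.DGroupCent
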