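import Cfsg.Agent.S0944
import Cfsg.Agent.S0948
import Cfsg.Agent.S4479
import Cfsg.Agent.S4481
import Cfsg.Agent.S4482
import Cfsg.Agent.Lib.BlockReg.Integral
import Cfsg.Agent.Lib.BlockPrincipal.RealOddBasic
import Mathlib.RingTheory.RootsOfUnity.Complex

/-!
# The order formulas for dihedral Sylow 2-subgroups bound the index of a large subgroup

If `G` has dihedral Sylow `2`-subgroups and one class of involutions, and a subgroup `M` containing a
Sylow `2`-subgroup contains the centralizers of involutions and fuses them as well, then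
`|G : M| ≤ 8`, and `|G : M| < 6` if the Sylow subgroup is a four-group.
-/

set_option autoImplicit false

namespace CfsgLib.DGroupCent

open Subgroup

variable {G : Type*} [Group G] [Finite G]

omit [Finite G] in
theorem card_centralizer_of_le {M : Subgroup G} (S : Set M)
    (h : Subgroup.centralizer ((fun x : M => (x : G)) '' S) ≤ M) :
    Nat.card (Subgroup.centralizer S) =
      Nat.card (Subgroup.centralizer ((fun x : M => (x : G)) '' S)) := by
  refine Nat.card_congr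
    { toFun := fun c => ⟨c.1.1, ?_⟩
      invFun := fun c => ⟨⟨c.1, h c.2⟩, ?_⟩
      left_inv := fun c => rfl
      right_inv := fun c => rfl }
  · rw [Subgroup.mem_centralizer_iff]
    rintro _ ⟨x, hx, rfl⟩
    exact congrArg Subtype.val (Subgroup.mem_centralizer_iff.mp c.2 x hx)
  · rw [Subgroup.mem_centralizer_iff]
    exact fun x hx => Subtype.ext (Subgroup.mem_centralizer_iff.mp c.2 x ⟨x, hx, rfl⟩)

/-- The order formula for a dihedral Sylow `2`-subgroup of order at least `8`, with the degree factor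
bounded. -/
theorem exists_factor (n : ℕ) (hn : 3 ≤ n) (P : Sylow 2 G)
    (hP : Nonempty ((P : Subgroup G) ≃* DihedralGroup (2 ^ (n - 1)))) (σ τ : G)
    (hσ : σ ∈ (P : Subgroup G)) (hτ : τ ∈ (P : Subgroup G)) (hσo : orderOf σ = 2 ^ (n - 1))
    (hτo : orderOf τ = 2) (hrel : τ * σ * τ⁻¹ = σ⁻¹)
    (hgen : Subgroup.closure ({σ, τ} : Set G) = (P : Subgroup G))
    (hconj : IsConj (σ ^ (2 ^ (n - 2))) τ ∧ IsConj (σ ^ (2 ^ (n - 2))) (σ * τ)) :
    ∃ q : ℚ, 3 / 8 ≤ q ∧ q ≤ 3 ∧ (Nat.card G : ℚ) =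
      q * (2 * (Nat.card (Subgroup.centralizer ({σ ^ (2 ^ (n - 2))} : Set G)) : ℚ) ^ 3 *
        (1 / (Nat.card (Subgroup.centralizer ({σ ^ (2 ^ (n - 2)), τ} : Set G)) : ℚ) +
          1 / (Nat.card (Subgroup.centralizer ({σ ^ (2 ^ (n - 2)), σ * τ} : Set G)) : ℚ)) ^ 2) := by
  obtain ⟨M, hM⟩ := CfsgLib.BlockReg.exists_isPModular Nat.prime_two
  obtain ⟨-, χ₁, χ₂, χ₃, χ', δ₁, δ₂, δ₃, hδ₁, -, -, -, hne, -, -, -, -, -, -, hB, hval, -⟩ :=
    Cfsg.Agent.S4481.result M hM n hn P hP σ hσ hσo _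
      (Complex.isPrimitiveRoot_exp (2 ^ (n - 1)) (by positivity))
  have hmem : χ₁ ∈ Cfsg.principalBlock M G := by rw [hB]; exact Or.inr (Or.inl rfl)
  obtain ⟨hxd, heq⟩ := Cfsg.Agent.S4482.result M hM n hn P σ τ hσ hτ hσo hτo hrel hgen hconj χ₁
    hmem hne δ₁ hδ₁ fun l h0 hl => (hval l h0 hl).1
  have hpow : 2 ^ (n - 2) < 2 ^ (n - 1) := Nat.pow_lt_pow_right (by norm_num) (by omega)
  obtain ⟨m, hm, hdvd⟩ := Cfsg.Agent.S0944.result χ₁ (σ ^ (2 ^ (n - 2))) (by
    rw [orderOf_pow_of_dvd (by positivity) (hσo ▸ pow_dvd_pow 2 (by omega)), hσo,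
      Nat.pow_div (by omega) two_pos, show n - 1 - (n - 2) = 1 by omega, pow_one])
  rw [(hval _ (by positivity) hpow).1] at hm
  have hm' : m = δ₁ := by exact_mod_cast hm.symm
  rw [hm'] at hdvd
  obtain ⟨x, hx⟩ : ∃ x, x = Cfsg.charDegree (χ₁ : G → ℂ) := ⟨_, rfl⟩
  rw [← hx] at hxd hdvd heq
  obtain ⟨K, hK⟩ : ∃ K : ℚ,
      K = 2 * (Nat.card (Subgroup.centralizer ({σ ^ (2 ^ (n - 2))} : Set G)) : ℚ) ^ 3 *
        (1 / (Nat.card (Subgroup.centralizer ({σ ^ (2 ^ (n - 2)), τ} : Set G)) : ℚ) +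
          1 / (Nat.card (Subgroup.centralizer ({σ ^ (2 ^ (n - 2)), σ * τ} : Set G)) : ℚ)) ^ 2 :=
    ⟨_, rfl⟩
  rw [← hK]
  have heq' : (Nat.card G : ℚ) * ((x : ℚ) - δ₁) ^ 2 = (x : ℚ) * ((x : ℚ) + δ₁) * K := by
    rw [heq, hK]; ring
  have hG : (0 : ℚ) < Nat.card G := by exact_mod_cast Nat.card_pos
  have h3 : 3 ≤ x := by
    by_contra hlt
    rcases hδ₁ with h | h <;> subst h
    · omega
    · obtain rfl : x = 1 := by omega
      norm_num at heq'
      exact Nat.card_pos.ne' heq'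
  have hx3 : (3 : ℚ) ≤ x := by exact_mod_cast h3
  refine ⟨(x : ℚ) * ((x : ℚ) + δ₁) / ((x : ℚ) - δ₁) ^ 2, ?_, ?_, ?_⟩
  · rcases hδ₁ with rfl | rfl <;> push_cast <;> rw [le_div_iff₀ (pow_pos (by linarith) 2)] <;>
      nlinarith
  · rcases hδ₁ with rfl | rfl <;> push_cast <;> rw [div_le_iff₀ (pow_pos (by linarith) 2)] <;>
      nlinarith
  · rw [div_mul_eq_mul_div, eq_div_iff (ne_of_gt (pow_pos (by
      rcases hδ₁ with rfl | rfl <;> push_cast <;> linarith) 2))]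
    exact heq'

/-- The index bound for dihedral Sylow `2`-subgroups of order at least `8`. -/
theorem index_le_eight (n : ℕ) (hn : 3 ≤ n) (P : Sylow 2 G)
    (hP : Nonempty ((P : Subgroup G) ≃* DihedralGroup (2 ^ (n - 1)))) (σ τ : G)
    (hσ : σ ∈ (P : Subgroup G)) (hτ : τ ∈ (P : Subgroup G)) (hσo : orderOf σ = 2 ^ (n - 1))
    (hτo : orderOf τ = 2) (hrel : τ * σ * τ⁻¹ = σ⁻¹)
    (hgen : Subgroup.closure ({σ, τ} : Set G) = (P : Subgroup G))
    (M : Subgroup G) (hPM : (P : Subgroup G) ≤ M)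
    (h1 : ∃ g ∈ M, g * σ ^ (2 ^ (n - 2)) * g⁻¹ = τ)
    (h2 : ∃ g ∈ M, g * σ ^ (2 ^ (n - 2)) * g⁻¹ = σ * τ)
    (hcent : Subgroup.centralizer ({σ ^ (2 ^ (n - 2))} : Set G) ≤ M) : M.index ≤ 8 := by
  obtain ⟨g₁, hg₁, he₁⟩ := h1
  obtain ⟨g₂, hg₂, he₂⟩ := h2
  obtain ⟨q, hq1, hq2, hG⟩ := exists_factor n hn P hP σ τ hσ hτ hσo hτo hrel hgen
    ⟨isConj_iff.mpr ⟨g₁, he₁⟩, isConj_iff.mpr ⟨g₂, he₂⟩⟩
  obtain ⟨s, hs⟩ : ∃ s : M, (s : G) = σ := ⟨⟨σ, hPM hσ⟩, rfl⟩
  obtain ⟨t, ht⟩ : ∃ t : M, (t : G) = τ := ⟨⟨τ, hPM hτ⟩, rfl⟩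
  have hle : ∀ S : Set G, σ ^ (2 ^ (n - 2)) ∈ S → Subgroup.centralizer S ≤ M := fun S hS =>
    (Subgroup.centralizer_le (Set.singleton_subset_iff.mpr hS)).trans hcent
  have hcl : Subgroup.closure ({s, t} : Set M) = (P.subtype hPM : Subgroup M) := by
    refine Subgroup.map_injective M.subtype_injective ?_
    rw [MonoidHom.map_closure, Set.image_pair, Subgroup.coe_subtype, hs, ht, hgen,
      Sylow.coe_subtype, Subgroup.map_subgroupOf_eq_of_le hPM]
  obtain ⟨e⟩ := hP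
  obtain ⟨q', hq1', hq2', hM⟩ := exists_factor n hn (P.subtype hPM)
    ⟨((MulEquiv.subgroupCongr (P.coe_subtype hPM)).trans
      (Subgroup.subgroupOfEquivOfLe hPM)).trans e⟩ s t
    (show (s : G) ∈ (P : Subgroup G) by rw [hs]; exact hσ)
    (show (t : G) ∈ (P : Subgroup G) by rw [ht]; exact hτ)
    (by rw [← Subgroup.orderOf_coe, hs, hσo]) (by rw [← Subgroup.orderOf_coe, ht, hτo])
    (Subtype.ext (by simp [hs, ht, hrel])) hcl
    ⟨isConj_iff.mpr ⟨⟨g₁, hg₁⟩, Subtype.ext (by simp [hs, ht, he₁])⟩,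
      isConj_iff.mpr ⟨⟨g₂, hg₂⟩, Subtype.ext (by simp [hs, ht, he₂])⟩⟩
  rw [card_centralizer_of_le ({s ^ (2 ^ (n - 2))} : Set M)
      (hle _ ⟨s ^ (2 ^ (n - 2)), rfl, by simp [hs]⟩),
    card_centralizer_of_le ({s ^ (2 ^ (n - 2)), t} : Set M)
      (hle _ ⟨s ^ (2 ^ (n - 2)), Or.inl rfl, by simp [hs]⟩),
    card_centralizer_of_le ({s ^ (2 ^ (n - 2)), s * t} : Set M)
      (hle _ ⟨s ^ (2 ^ (n - 2)), Or.inl rfl, by simp [hs]⟩),
    Set.image_singleton, Set.image_pair, Set.image_pair] at hM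
  simp only [SubmonoidClass.coe_pow, Subgroup.coe_mul, hs, ht] at hM
  obtain ⟨K, hK⟩ : ∃ K : ℚ,
      K = 2 * (Nat.card (Subgroup.centralizer ({σ ^ (2 ^ (n - 2))} : Set G)) : ℚ) ^ 3 *
        (1 / (Nat.card (Subgroup.centralizer ({σ ^ (2 ^ (n - 2)), τ} : Set G)) : ℚ) +
          1 / (Nat.card (Subgroup.centralizer ({σ ^ (2 ^ (n - 2)), σ * τ} : Set G)) : ℚ)) ^ 2 :=
    ⟨_, rfl⟩
  rw [← hK] at hG hM
  have hidx : (Nat.card M : ℚ) * M.index = Nat.card G := by
    exact_mod_cast M.card_mul_index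
  have hK0 : 0 < K := by
    have : (0 : ℚ) < Nat.card M := by exact_mod_cast Nat.card_pos
    rw [hM] at this
    exact pos_of_mul_pos_right this (by linarith)
  have : q' * (M.index : ℚ) = q := by
    rw [hM, hG] at hidx
    exact mul_right_cancel₀ hK0.ne' (by linarith)
  have h8 : (M.index : ℚ) ≤ 8 := by nlinarith [mul_le_mul_of_nonneg_right hq1' (Nat.cast_nonneg (α := ℚ) M.index)]
  exact_mod_cast h8

/-- The order formula for a Klein Sylow `2`-subgroup, with the degree factor bounded. -/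
theorem exists_factor_klein (P : Sylow 2 G) (hP : IsKleinFour (P : Subgroup G))
    (hone : ∀ s t : G, orderOf s = 2 → orderOf t = 2 → IsConj s t) {J : G}
    (hJ : J ∈ (P : Subgroup G)) (hJ2 : orderOf J = 2) :
    ∃ α : ℚ, 3 / 8 ≤ α ∧ α < 9 / 4 ∧ (Nat.card G : ℚ) =
      α * (8 * (Nat.card (Subgroup.centralizer ({J} : Set G)) : ℚ) ^ 3 /
        (Nat.card (Subgroup.centralizer ((P : Subgroup G) : Set G)) : ℚ) ^ 2) := by
  obtain ⟨M, hM⟩ := CfsgLib.BlockReg.exists_isPModular Nat.prime_two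
  obtain ⟨ζ₂, ζ₃, ζ₄, ε, hε, h21, h31, h23, h24, h34, hB, hval, hd2, hd3, hd4, hrel⟩ :=
    Cfsg.Agent.S0948.result M hM P hP hone
  obtain ⟨hv2, hv3, hv4⟩ := hval J hJ2
  have h41 : (ζ₄ : G → ℂ) ≠ fun _ => 1 := fun e => by
    rw [e] at hv4; norm_num at hv4
  have hodd : Odd P.1.index := by
    rw [Nat.odd_iff, ← Nat.two_dvd_ne_zero]; exact P.not_dvd_index
  have hcardG : Nat.card G = 4 * P.1.index := by rw [← P.1.card_mul_index, hP.card_four]
  have hnc : ¬ ∃ N : Subgroup G, N.Normal ∧ Nat.card N = P.1.index := by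
    rintro ⟨N, hN, hNc⟩
    have := Fact.mk Nat.prime_two
    have hQ : Nat.card (G ⧸ N) = 2 ^ 2 := by
      have := N.card_mul_index
      rw [hNc, hcardG, Subgroup.index_eq_card, mul_comm 4] at this
      exact Nat.eq_of_mul_eq_mul_left (Nat.pos_of_ne_zero (Subgroup.index_ne_zero_of_finite)) this
    have hcomm := (IsPGroup.isMulCommutative_of_card_eq_prime_sq hQ).is_comm.comm
    obtain ⟨⟨u, hu⟩, hu1, huJ⟩ : ∃ u : (P : Subgroup G), u ≠ 1 ∧ u ≠ ⟨J, hJ⟩ := by
      by_contra! h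
      have h2 : Nat.card (P : Subgroup G) ≤ Nat.card Bool := by
        refine Nat.card_le_card_of_surjective
          (fun b : Bool => if b then (1 : (P : Subgroup G)) else ⟨J, hJ⟩) fun x => ?_
        by_cases hx : x = 1
        · exact ⟨true, by simp [hx]⟩
        · exact ⟨false, by simp [h x hx]⟩
      rw [hP.card_four] at h2
      simp at h2
    have hu2 : orderOf u = 2 := by
      refine orderOf_eq_prime ?_ fun e => hu1 (Subtype.ext e)
      have := pow_card_eq_one' (x := (⟨u, hu⟩ : (P : Subgroup G)))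
      have h2 := Monoid.pow_exponent_eq_one (⟨u, hu⟩ : (P : Subgroup G))
      rw [hP.exponent_two] at h2
      simpa using congrArg Subtype.val h2
    obtain ⟨g, hg⟩ := isConj_iff.mp (hone J u hJ2 hu2)
    have himg : (u : G ⧸ N) = (J : G ⧸ N) := by
      rw [← hg, QuotientGroup.mk_mul, QuotientGroup.mk_mul, hcomm, QuotientGroup.mk_inv,
        inv_mul_cancel_left]
    rw [QuotientGroup.eq] at himg
    refine huJ (Subtype.ext ?_)
    have hPN : ∀ w ∈ (P : Subgroup G), w ∈ N → w = 1 := fun w hw hwN => by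
      refine orderOf_eq_one_iff.mp ?_
      refine Nat.eq_one_of_dvd_coprimes (a := Nat.card (P : Subgroup G)) (b := P.1.index) ?_
        (Subgroup.orderOf_dvd_natCard _ hw) (hNc ▸ Subgroup.orderOf_dvd_natCard _ hwN)
      rw [hP.card_four]
      exact (Nat.Coprime.pow_left 2 (Nat.coprime_two_left.mpr hodd) : Nat.Coprime (2 ^ 2) _)
    exact inv_mul_eq_one.mp (hPN _ (mul_mem (inv_mem hu) hJ) himg)
  have heq := Cfsg.Agent.S4479.result M hM P.1.index hodd hcardG hnc P J hJ hJ2 ζ₂ ζ₃ ζ₄ 1 ε (-1)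
    hB ⟨h21, h31, h41, h23, h24, h34⟩ ⟨Or.inl rfl, hε, Or.inr rfl⟩
    ⟨by simpa using hv2, hv3, by simpa using hv4⟩
  obtain ⟨a, ha⟩ : ∃ a, a = Cfsg.charDegree (ζ₂ : G → ℂ) := ⟨_, rfl⟩
  obtain ⟨b, hb⟩ : ∃ b, b = Cfsg.charDegree (ζ₃ : G → ℂ) := ⟨_, rfl⟩
  obtain ⟨c, hc⟩ : ∃ c, c = Cfsg.charDegree (ζ₄ : G → ℂ) := ⟨_, rfl⟩
  rw [← ha, ← hb, ← hc] at heq
  rw [← ha] at hd2; rw [← hb] at hd3; rw [← hc] at hd4
  obtain ⟨W, hW⟩ : ∃ W : ℚ, W = 8 * (Nat.card (Subgroup.centralizer ({J} : Set G)) : ℚ) ^ 3 /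
      (Nat.card (Subgroup.centralizer ((P : Subgroup G) : Set G)) : ℚ) ^ 2 := ⟨_, rfl⟩
  rw [← hW]
  have heq' : (Nat.card G : ℚ) =
      (a : ℚ) * b * c / (((a : ℚ) + 1) * ((b : ℚ) + ε) * ((c : ℚ) + (-1))) * W := by
    rw [heq, hW]; push_cast; ring
  have hc3 : (3 : ℚ) ≤ c := by
    have : 3 ≤ c := by omega
    exact_mod_cast this
  have ha1 : (1 : ℚ) ≤ a := by
    have : 1 ≤ a := by omega
    exact_mod_cast this
  have hG : (0 : ℚ) < Nat.card G := by exact_mod_cast Nat.card_pos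
  have f2a : 1 / 2 ≤ (a : ℚ) / (a + 1) := by rw [div_le_div_iff₀ (by norm_num) (by linarith)]; linarith
  have f2b : (a : ℚ) / (a + 1) < 1 := by rw [div_lt_one (by linarith)]; linarith
  have f4a : 1 < (c : ℚ) / (c - 1) := by rw [one_lt_div (by linarith)]; linarith
  have f4b : (c : ℚ) / (c - 1) ≤ 3 / 2 := by
    rw [div_le_div_iff₀ (by linarith) (by norm_num)]; linarith
  refine ⟨(a : ℚ) * b * c / (((a : ℚ) + 1) * ((b : ℚ) + ε) * ((c : ℚ) + (-1))), ?_, ?_, heq'⟩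
  · rw [show (a : ℚ) * b * c / (((a : ℚ) + 1) * ((b : ℚ) + ε) * ((c : ℚ) + (-1))) =
      (a : ℚ) / (a + 1) * ((b : ℚ) / (b + ε)) * ((c : ℚ) / (c - 1)) by
        rw [div_mul_div_comm, div_mul_div_comm]; ring_nf]
    rcases hε with rfl | rfl
    · have hb1 : (1 : ℚ) ≤ b := by
        have : 1 ≤ b := by omega
        exact_mod_cast this
      have hsum : (c : ℚ) = 1 + a + b := by
        have := hrel 1 (by simp)
        rw [CfsgLib.RealOdd2.apply_one_eq_charDegree, CfsgLib.RealOdd2.apply_one_eq_charDegree,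
          CfsgLib.RealOdd2.apply_one_eq_charDegree, ← ha, ← hb, ← hc] at this
        have h' : ((c : ℕ) : ℂ) = ((1 + a + b : ℕ) : ℂ) := by push_cast at this ⊢; linear_combination -this
        exact_mod_cast h'
      push_cast
      rw [hsum]
      rw [div_mul_div_comm, div_mul_div_comm,
        le_div_iff₀ (by have := mul_pos (mul_pos (show (0:ℚ) < a + 1 by linarith)
          (show (0:ℚ) < b + 1 by linarith)) (show (0:ℚ) < 1 + a + b - 1 by linarith); linarith)]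
      nlinarith [mul_nonneg (sub_nonneg.mpr ha1) (sub_nonneg.mpr hb1)]
    · have hb3 : (3 : ℚ) ≤ b := by
        have : 3 ≤ b := by omega
        exact_mod_cast this
      have f3 : 1 ≤ (b : ℚ) / (b + ((-1 : ℤ) : ℚ)) := by
        rw [one_le_div (by push_cast; linarith)]; push_cast; linarith
      nlinarith [mul_le_mul f2a f3 (by norm_num) (by linarith)]
  · rw [show (a : ℚ) * b * c / (((a : ℚ) + 1) * ((b : ℚ) + ε) * ((c : ℚ) + (-1))) =
      (a : ℚ) / (a + 1) * ((b : ℚ) / (b + ε)) * ((c : ℚ) / (c - 1)) by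
        rw [div_mul_div_comm, div_mul_div_comm]; ring_nf]
    have f3 : 0 < (b : ℚ) / (b + ε) ∧ (b : ℚ) / (b + ε) ≤ 3 / 2 := by
      rcases hε with rfl | rfl
      · have hb1 : (1 : ℚ) ≤ b := by
          have : 1 ≤ b := by omega
          exact_mod_cast this
        push_cast
        exact ⟨div_pos (by linarith) (by linarith), by
          rw [div_le_div_iff₀ (by linarith) (by norm_num)]; linarith⟩
      · have hb3 : (3 : ℚ) ≤ b := by
          have : 3 ≤ b := by omega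
          exact_mod_cast this
        push_cast
        exact ⟨div_pos (by linarith) (by linarith), by
          rw [div_le_div_iff₀ (by linarith) (by norm_num)]; linarith⟩
    calc (a : ℚ) / (a + 1) * ((b : ℚ) / (b + ε)) * ((c : ℚ) / (c - 1))
        < 1 * ((b : ℚ) / (b + ε)) * ((c : ℚ) / (c - 1)) :=
          mul_lt_mul_of_pos_right (mul_lt_mul_of_pos_right f2b f3.1) (by linarith)
      _ ≤ 1 * (3 / 2) * (3 / 2) := by
          exact mul_le_mul (by linarith [f3.2]) f4b (by linarith) (by norm_num)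
      _ = 9 / 4 := by norm_num

/-- The index bound for Klein Sylow `2`-subgroups. -/
theorem index_lt_six (P : Sylow 2 G) (hP : IsKleinFour (P : Subgroup G))
    (hone : ∀ s t : G, orderOf s = 2 → orderOf t = 2 → IsConj s t)
    (M : Subgroup G) (hPM : (P : Subgroup G) ≤ M)
    (honeM : ∀ s t : M, orderOf s = 2 → orderOf t = 2 → IsConj s t) {J : G}
    (hJ : J ∈ (P : Subgroup G)) (hJ2 : orderOf J = 2)
    (hcent : Subgroup.centralizer ({J} : Set G) ≤ M) : M.index < 6 := by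
  obtain ⟨α, ha1, ha2, hG⟩ := exists_factor_klein P hP hone hJ hJ2
  have : IsKleinFour (P : Subgroup G) := hP
  have hPM' : IsKleinFour (P.subtype hPM : Subgroup M) := by
    have e := (MulEquiv.subgroupCongr (P.coe_subtype hPM)).trans (Subgroup.subgroupOfEquivOfLe hPM)
    exact ⟨(Nat.card_congr e.toEquiv).trans hP.card_four,
      (Monoid.exponent_eq_of_mulEquiv e).trans hP.exponent_two⟩
  obtain ⟨j, hj⟩ : ∃ j : M, (j : G) = J := ⟨⟨J, hPM hJ⟩, rfl⟩
  obtain ⟨α', ha1', ha2', hM⟩ := exists_factor_klein (P.subtype hPM) hPM' honeM (J := j)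
    (show (j : G) ∈ (P : Subgroup G) by rw [hj]; exact hJ) (by rw [← Subgroup.orderOf_coe, hj, hJ2])
  have hPimg : (fun x : M => (x : G)) '' ((P.subtype hPM : Subgroup M) : Set M) =
      ((P : Subgroup G) : Set G) := by
    ext x
    exact ⟨fun ⟨y, hy, e⟩ => e ▸ hy, fun hx => ⟨⟨x, hPM hx⟩, hx, rfl⟩⟩
  have hle : Subgroup.centralizer ((P : Subgroup G) : Set G) ≤ M :=
    (Subgroup.centralizer_le (Set.singleton_subset_iff.mpr hJ)).trans hcent
  rw [card_centralizer_of_le ({j} : Set M) (by rw [Set.image_singleton, hj]; exact hcent),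
    card_centralizer_of_le ((P.subtype hPM : Subgroup M) : Set M) (by rw [hPimg]; exact hle),
    Set.image_singleton, hj, hPimg] at hM
  obtain ⟨W, hW⟩ : ∃ W : ℚ, W = 8 * (Nat.card (Subgroup.centralizer ({J} : Set G)) : ℚ) ^ 3 /
      (Nat.card (Subgroup.centralizer ((P : Subgroup G) : Set G)) : ℚ) ^ 2 := ⟨_, rfl⟩
  rw [← hW] at hG hM
  have hidx : (Nat.card M : ℚ) * M.index = Nat.card G := by exact_mod_cast M.card_mul_index
  have hW0 : 0 < W := by
    have : (0 : ℚ) < Nat.card M := by exact_mod_cast Nat.card_pos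
    rw [hM] at this
    exact pos_of_mul_pos_right this (by linarith)
  have h' : α' * (M.index : ℚ) = α := by
    rw [hM, hG] at hidx
    exact mul_right_cancel₀ hW0.ne' (by linarith)
  have h6 : (M.index : ℚ) < 6 := by
    nlinarith [mul_le_mul_of_nonneg_right ha1' (Nat.cast_nonneg (α := ℚ) M.index)]
  exact_mod_cast h6

end CfsgLib.DGroupCent
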