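import Cfsg.Agent.Lib.DGroupCent.OneOuter
import Cfsg.Agent.Lib.DGroupCent.OrderRatio

/-!
# Rank one, outer case: the centralizer of a four-group of `X` is a `2`-group

A nontrivial `y` in `D₀` would make `C_X(y)` a strongly embedded subgroup with one class of
involutions; the order formulas and the free action of a Sylow subgroup exclude this.
-/

set_option autoImplicit false
set_option linter.unusedSectionVars false

namespace CfsgLib.DGroupCent

open Subgroup CfsgLib.TwoFusion.DihedralFusion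

variable {G : Type*} [Group G] [Finite G]

namespace Outer

variable {H A : Subgroup G} {z : G} {X : Subgroup G} {S : Sylow 2 G}
  {D : DihGens (S : Subgroup G)} {i : ℤ} (o : Outer H A z X D i)

include o

theorem sylow_part_mem {x u t : G} (hx : x ∈ X) (hu : InU D.z u)
    (ht : t ∈ (S : Subgroup G)) (he : x = u * t) : t ∈ X := by
  have hXn := o.core.normal
  rw [← QuotientGroup.eq_one_iff (N := X), ← orderOf_eq_one_iff]
  obtain ⟨r, hr⟩ := IsPGroup.iff_orderOf.mp S.isPGroup' ⟨t, ht⟩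
  rw [Subgroup.orderOf_mk] at hr
  have hq : (t : G ⧸ X) = (u : G ⧸ X)⁻¹ := by
    rw [eq_inv_iff_mul_eq_one]
    have h1 : (u : G ⧸ X) * t = 1 := by
      rw [← QuotientGroup.mk_mul, ← he]
      exact (QuotientGroup.eq_one_iff x).mpr hx
    rw [mul_eq_one_iff_eq_inv'.mp h1, inv_mul_cancel]
  refine Nat.eq_one_of_dvd_coprimes (((Nat.coprime_two_right.mpr hu.2).pow_right r).symm)
    (hr ▸ orderOf_map_dvd (QuotientGroup.mk' X) t) ?_
  rw [hq, orderOf_inv]
  exact orderOf_map_dvd (QuotientGroup.mk' X) u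

theorem cent_commute_inD {x y : G} (hx : x ∈ X) (hxc : Commute x D.z) (hy : o.InD y) :
    Commute x y := by
  obtain ⟨U, hU, hdec⟩ := o.exists_U
  obtain ⟨u, hu, t, ht, rfl⟩ := hdec x hxc
  exact (o.commute_inU ((hU u).mp hu) hy.1).mul_left
    (o.inD_commute_inf hy ht (o.sylow_part_mem hx ((hU u).mp hu) ht rfl)).symm

/-- Involutions of `C_X(y)` are conjugate there to `c`. -/
theorem fuse_cent {y w : G} (hy : o.InD y) (hw : w ∈ X) (hw2 : orderOf w = 2)
    (hwy : Commute w y) : ∃ m ∈ X, Commute m y ∧ m * D.z * m⁻¹ = w := by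
  have hXn := o.core.normal
  have : Fact (Nat.Prime 2) := ⟨Nat.prime_two⟩
  obtain ⟨M, hM⟩ : ∃ M, M = X ⊓ Subgroup.centralizer ({y} : Set G) := ⟨_, rfl⟩
  have hmem : ∀ {g : G}, g ∈ M ↔ g ∈ X ∧ Commute g y := fun {g} => by
    rw [hM, Subgroup.mem_inf, Subgroup.mem_centralizer_singleton_iff]; rfl
  have hRM : (S : Subgroup G) ⊓ X ≤ M := fun t ht =>
    hmem.mpr ⟨ht.2, (o.inD_commute_inf hy ht.1 ht.2).symm⟩
  have hodd : Odd (((S : Subgroup G) ⊓ X).relIndex M) := by
    have h1 := TwoFusion.FusionTools.odd_relIndex_inf (S : Subgroup G) X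
      (TwoFusion.FusionTools.sylow_index_odd S)
    rw [← Subgroup.relIndex_mul_relIndex _ M X hRM (hM ▸ inf_le_left)] at h1
    exact (Nat.odd_mul.mp h1).1
  obtain ⟨h, hh, hconj⟩ := TwoFusion.FusionTools.exists_conj_le M _ (Subgroup.zpowers w)
    (S.isPGroup'.to_le inf_le_left) hRM hodd
    (IsPGroup.of_card (n := 1) (by rw [Nat.card_zpowers, hw2, pow_one]))
    (Subgroup.zpowers_le.mpr (hmem.mpr ⟨hw, hwy⟩))
  obtain ⟨hwS, hwX⟩ := hconj w (mem_zpowers w)
  obtain ⟨hhX, hhy⟩ := hmem.mp hh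
  have ho : orderOf (h * w * h⁻¹) = 2 := by rw [Invol.orderOf_conj, hw2]
  obtain ⟨g, hg, hgy, hge⟩ : ∃ g ∈ X, Commute g y ∧ g * D.z * g⁻¹ = h * w * h⁻¹ := by
    rcases involution_cases D hwS ho with e | ⟨j, e⟩
    · exact ⟨1, X.one_mem, Commute.one_left y, by rw [e]; group⟩
    · obtain ⟨g, hg, hgy, hge⟩ := o.fuse ((o.hrefl j).mp (e ▸ hwX))
      exact ⟨g, hg, hgy y hy, by rw [hge, e]⟩
  refine ⟨h⁻¹ * g, X.mul_mem (X.inv_mem hhX) hg, hhy.inv_left.mul_left hgy, ?_⟩
  calc h⁻¹ * g * D.z * (h⁻¹ * g)⁻¹ = h⁻¹ * (g * D.z * g⁻¹) * h := by group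
    _ = w := by rw [hge]; group

/-- `C_X(y)` is strongly embedded. -/
theorem strongly {y g w : G} (hy : o.InD y) (hg : g ∈ X) (hw : w ∈ X) (hw2 : orderOf w = 2)
    (hwy : Commute w y) (hgy : Commute (g⁻¹ * w * g) y) : Commute g y := by
  obtain ⟨m, hm, hmy, hme⟩ := o.fuse_cent hy hw hw2 hwy
  obtain ⟨m', hm', hm'y, hm'e⟩ := o.fuse_cent hy (X.mul_mem (X.mul_mem (X.inv_mem hg) hw) hg)
    (by rw [← hw2]; simpa using (MulAut.conj g⁻¹).orderOf_eq w) hgy
  have hxc : Commute (m⁻¹ * g * m') D.z := by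
    refine mul_inv_eq_iff_eq_mul.mp ?_
    calc m⁻¹ * g * m' * D.z * (m⁻¹ * g * m')⁻¹ = m⁻¹ * g * (m' * D.z * m'⁻¹) * g⁻¹ * m := by group
      _ = m⁻¹ * w * m := by rw [hm'e]; group
      _ = D.z := by rw [← hme]; group
  have hx := o.cent_commute_inD (X.mul_mem (X.mul_mem (X.inv_mem hm) hg) hm') hxc hy
  rw [show g = m * (m⁻¹ * g * m') * m'⁻¹ by group]
  exact (hmy.mul_left hx).mul_left hm'y.inv_left

theorem inD_eq_one {y : G} (hy : o.InD y) : y = 1 := by
  by_contra hy1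
  have hXn := o.core.normal
  have : Fact (Nat.Prime 2) := ⟨Nat.prime_two⟩
  obtain ⟨T, hT⟩ := o.core.exists_sylow S
  obtain ⟨D', hk', ha', hb'⟩ := o.exists_inner_gens T hT
  obtain ⟨hsimple, hnc, hone⟩ := o.core.structure_facts D
  obtain ⟨M, hM⟩ : ∃ M, M = (Subgroup.centralizer ({y} : Set G)).subgroupOf X := ⟨_, rfl⟩
  have hmem : ∀ {g : X}, g ∈ M ↔ Commute (g : G) y := fun {g} => by
    rw [hM, Subgroup.mem_subgroupOf, Subgroup.mem_centralizer_singleton_iff]; rfl
  have hyX : y ∉ Subgroup.centralizer (X : Set G) := fun h => hy1 (by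
    rwa [o.core.centralizer_eq_bot D, Subgroup.mem_bot] at h)
  have hMtop : M ≠ ⊤ := fun h => hyX (Subgroup.mem_centralizer_iff.mpr fun x hx =>
    (hmem.mp (h ▸ mem_top (⟨x, hx⟩ : X))).eq)
  have hTmem : ∀ t ∈ (T : Subgroup X), (t : G) ∈ (S : Subgroup G) := fun t ht => by
    rw [hT, Subgroup.mem_subgroupOf] at ht
    exact ht.1
  have hTM : (T : Subgroup X) ≤ M := fun t ht =>
    hmem.mpr (o.inD_commute_inf hy (hTmem t ht) t.2).symm
  have hz' : (D'.z : G) = D.z := by
    show ((D'.a ^ ((2 ^ D'.k : ℕ) : ℤ) : X) : G) = D.a ^ ((2 ^ D.k : ℕ) : ℤ)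
    rw [Subgroup.coe_zpow, ha', ← zpow_mul, ← hk', pow_succ]
    congr 1
    push_cast
    ring
  have hcent : Subgroup.centralizer ({D'.z} : Set X) ≤ M := fun x hx => by
    rw [Subgroup.mem_centralizer_singleton_iff] at hx
    refine hmem.mpr (o.cent_commute_inD x.2 ?_ hy)
    have := congrArg Subtype.val hx
    rw [Subgroup.coe_mul, Subgroup.coe_mul, hz'] at this
    exact this
  have hfuse : ∀ j : ℤ, Even (j - i) → ∀ w : X, (w : G) = D.a ^ j * D.b →
      ∃ g ∈ M, g * D'.z * g⁻¹ = w := by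
    intro j hj w hw
    obtain ⟨g, hg, hgy, hge⟩ := o.fuse hj
    exact ⟨⟨g, hg⟩, hmem.mpr (hgy y hy), Subtype.ext (by
      rw [Subgroup.coe_mul, Subgroup.coe_mul, Subgroup.coe_inv, hz', hw, hge])⟩
  -- the free action of `T` on the nontrivial cosets
  have hfree : ∀ t ∈ (T : Subgroup X), ∀ g : X, g ∉ M → g⁻¹ * t * g ∈ M → t = 1 := by
    intro t ht g hg htg
    by_contra ht1
    obtain ⟨r, hr⟩ := IsPGroup.iff_orderOf.mp T.isPGroup' ⟨t, ht⟩
    rw [Subgroup.orderOf_mk] at hr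
    obtain ⟨r', rfl⟩ : ∃ r', r = r' + 1 := ⟨r - 1, by
      have : r ≠ 0 := fun h => ht1 (orderOf_eq_one_iff.mp (by rw [hr, h, pow_zero]))
      omega⟩
    have hw2 : orderOf (t ^ 2 ^ r' : X) = 2 := by
      rw [orderOf_pow_of_dvd (by positivity) (hr ▸ pow_dvd_pow 2 (by omega)), hr, pow_succ,
        Nat.mul_div_cancel_left _ (by positivity)]
    have hpow : g⁻¹ * t ^ 2 ^ r' * g ∈ M := by
      have := M.pow_mem htg (2 ^ r')
      rwa [show (g⁻¹ * t * g) ^ 2 ^ r' = g⁻¹ * t ^ 2 ^ r' * g by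
        simpa using (conj_pow (i := 2 ^ r') (a := g⁻¹) (b := t))] at this
    refine hg (hmem.mpr (o.strongly hy g.2 (w := ((t ^ 2 ^ r' : X) : G)) (Subtype.coe_prop _)
      (by rw [Subgroup.orderOf_coe]; exact hw2) (hmem.mp (M.pow_mem (hTM ht) _)) ?_))
    have := hmem.mp hpow
    simpa using this
  obtain ⟨g₀, hg₀⟩ : ∃ g : X, g ∉ M := by
    by_contra! h
    exact hMtop ((Subgroup.eq_top_iff' M).mpr h)
  have hbound : ∀ g : X, g ∉ M → Function.Injective
      (fun t : Option (T : Subgroup X) =>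
        (t.elim (QuotientGroup.mk 1) fun t => QuotientGroup.mk ((t : X) * g) : X ⧸ M)) := by
    intro g hg
    rintro (_ | a) (_ | b) e
    · rfl
    · exact absurd ((M.mul_mem_cancel_left (hTM b.2)).mp (by simpa using QuotientGroup.eq.mp e)) hg
    · exact absurd ((M.mul_mem_cancel_left (hTM a.2)).mp
        (by simpa using QuotientGroup.eq.mp e.symm)) hg
    · refine congrArg some (Subtype.ext (inv_mul_eq_one.mp ?_))
      refine hfree _ ((T : Subgroup X).mul_mem ((T : Subgroup X).inv_mem a.2) b.2) g hg ?_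
      simpa [mul_assoc] using QuotientGroup.eq.mp e
  have hidx : Nat.card (T : Subgroup X) + 1 ≤ M.index := by
    rw [← Finite.card_option, Subgroup.index_eq_card]
    exact Nat.card_le_card_of_injective _ (hbound g₀ hg₀)
  have hzpow : D'.a ^ 2 ^ D'.k = D'.z := (zpow_natCast _ _).symm
  have hinvT : ∀ g, g ∈ (T : Subgroup X) ↔ ∃ n : ℤ, g = D'.a ^ n ∨ g = D'.b * D'.a ^ n := by
    intro g
    constructor
    · intro hg
      obtain ⟨n, h | h⟩ := D'.cases g hg
      · exact ⟨n, Or.inl h⟩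
      · exact ⟨-n, Or.inr (by rw [h, D'.b_mul_zpow, neg_neg])⟩
    · rintro ⟨n, rfl | rfl⟩
      exacts [(T : Subgroup X).zpow_mem D'.ha n,
        (T : Subgroup X).mul_mem D'.hb ((T : Subgroup X).zpow_mem D'.ha n)]
  rcases Nat.eq_zero_or_pos D'.k with h0 | hpos
  · -- Klein case
    have hK : IsKleinFour (T : Subgroup X) := by
      rw [eq_four_of_k_zero D' h0 0]; exact D'.four_isKleinFour 0
    have honeX : ∀ u v : X, orderOf u = 2 → orderOf v = 2 → IsConj u v := by
      intro u v hu hv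
      obtain ⟨g, hg, he⟩ := hone u u.2 v v.2 (by rwa [Subgroup.orderOf_coe])
        (by rwa [Subgroup.orderOf_coe])
      exact isConj_iff.mpr ⟨⟨g, hg⟩, Subtype.ext he⟩
    have honeM : ∀ u v : M, orderOf u = 2 → orderOf v = 2 → IsConj u v := by
      have key : ∀ u : M, orderOf u = 2 → IsConj (⟨D'.z, hTM D'.z_mem_S⟩ : M) u := by
        intro u hu
        obtain ⟨m, hm, hmy, hme⟩ := o.fuse_cent hy (u : X).2
          (by rw [Subgroup.orderOf_coe, Subgroup.orderOf_coe]; exact hu) (hmem.mp u.2)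
        exact isConj_iff.mpr ⟨⟨⟨m, hm⟩, hmem.mpr hmy⟩, Subtype.ext (Subtype.ext (by
          simp [hz', hme]))⟩
      exact fun u v hu hv => (key u hu).symm.trans (key v hv)
    have h6 := index_lt_six T hK honeX M hTM honeM D'.z_mem_S D'.orderOf_z hcent
    rw [hK.card_four] at hidx
    have h5 : M.index = 5 := by omega
    -- `y` fixes every coset
    have hfix : ∀ g : X, ((g : G))⁻¹ * y * g * y⁻¹ ∈ X ∧
        Commute ((g : G)⁻¹ * y * g * y⁻¹) y := by
      intro g
      have hX1 : (g : G)⁻¹ * y * g * y⁻¹ ∈ X := by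
        rw [mul_assoc, mul_assoc]
        refine X.mul_mem (X.inv_mem g.2) ?_
        rw [← mul_assoc]
        exact hXn.conj_mem _ g.2 y
      refine ⟨hX1, ?_⟩
      by_cases hg : g ∈ M
      · have hgy := hmem.mp hg
        rw [mul_assoc (g : G)⁻¹ y g, ← hgy.eq, inv_mul_cancel_left, mul_inv_cancel]
        exact Commute.one_left y
      have hbij : Function.Bijective (fun t : Option (T : Subgroup X) =>
          (t.elim (QuotientGroup.mk 1) fun t => QuotientGroup.mk ((t : X) * g) : X ⧸ M)) :=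
        (hbound g hg).bijective_of_nat_card_le (by
          rw [Finite.card_option, hK.card_four, ← Subgroup.index_eq_card, h5])
      obtain ⟨g', hg'⟩ : ∃ g' : X, (g' : G) = y * g * y⁻¹ := ⟨⟨_, hXn.conj_mem _ g.2 y⟩, rfl⟩
      have hg'M : g' ∉ M := fun h => hg (hmem.mpr (by
        have h1 : Commute (y * g * y⁻¹) y := hg' ▸ hmem.mp h
        have := h1.map (MulAut.conj y⁻¹).toMonoidHom
        simpa [mul_assoc] using this))
      obtain ⟨t, ht⟩ := hbij.2 (QuotientGroup.mk g')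
      rcases t with _ | t
      · exact absurd (by simpa using QuotientGroup.eq.mp ht) hg'M
      obtain ⟨m, hmM, hm⟩ : ∃ m ∈ M, g' = (t : X) * g * m :=
        ⟨((t : X) * g)⁻¹ * g', QuotientGroup.eq.mp ht, by group⟩
      have htS := hTmem t t.2
      have hty : Commute ((t : X) : G) y := (o.inD_commute_inf hy htS (t : X).2).symm
      have hmy : Commute (m : G) y := hmem.mp hmM
      have hm' : y * (g : G) * y⁻¹ = ((t : X) : G) * g * m := by
        rw [← hg', hm]; rfl
      have hiter : ∀ n : ℕ, ∃ m' : G, Commute m' y ∧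
          y ^ n * (g : G) * (y ^ n)⁻¹ = ((t : X) : G) ^ n * g * m' := by
        intro n
        induction n with
        | zero => exact ⟨1, Commute.one_left y, by simp⟩
        | succ n ih =>
          obtain ⟨m', hm'y, he⟩ := ih
          refine ⟨(m : G) * m', hmy.mul_left hm'y, ?_⟩
          calc y ^ (n + 1) * (g : G) * (y ^ (n + 1))⁻¹
              = y * (y ^ n * g * (y ^ n)⁻¹) * y⁻¹ := by rw [pow_succ']; group
            _ = (y * ((t : X) : G) ^ n) * g * (m' * y⁻¹) := by rw [he]; group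
            _ = ((t : X) : G) ^ n * (y * g * y⁻¹) * m' := by
              rw [(hty.pow_left n).symm.eq, hm'y.inv_right.eq]; group
            _ = ((t : X) : G) ^ (n + 1) * g * ((m : G) * m') := by rw [hm', pow_succ]; group
      obtain ⟨m', hm'y, he⟩ := hiter (orderOf y)
      rw [pow_orderOf_eq_one, one_mul, inv_one, mul_one] at he
      have ht1 : (t : X) ^ orderOf y = 1 := by
        refine hfree _ ((T : Subgroup X).pow_mem t.2 _) g hg (hmem.mpr ?_)
        have hm'eq : (g : G)⁻¹ * ((t : X) : G) ^ orderOf y * g = m'⁻¹ := by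
          calc (g : G)⁻¹ * ((t : X) : G) ^ orderOf y * g
              = (g : G)⁻¹ * (((t : X) : G) ^ orderOf y * g * m') * m'⁻¹ := by group
            _ = m'⁻¹ := by rw [← he]; group
        simpa [hm'eq] using hm'y.inv_left
      have ht0 : (t : X) = 1 := by
        obtain ⟨r, hr⟩ := IsPGroup.iff_orderOf.mp T.isPGroup' t
        rw [← Subgroup.orderOf_coe] at hr
        exact orderOf_eq_one_iff.mp (Nat.eq_one_of_dvd_coprimes
          (((Nat.coprime_two_right.mpr hy.1.2).pow_right r).symm) (hr ▸ dvd_rfl)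
          (orderOf_dvd_of_pow_eq_one ht1))
      rw [ht0, Subgroup.coe_one, one_mul] at hm'
      have hm2 : (g : G)⁻¹ * y * g * y⁻¹ = m := by
        calc (g : G)⁻¹ * y * g * y⁻¹ = (g : G)⁻¹ * (y * g * y⁻¹) := by group
          _ = m := by rw [hm', inv_mul_cancel_left]
      exact hm2 ▸ hmy
    have hcore : M.normalCore = ⊥ := by
      refine (hsimple.eq_bot_or_eq_top_of_normal M.normalCore inferInstance).resolve_right fun h => ?_
      exact hMtop (top_le_iff.mp (h ▸ M.normalCore_le))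
    refine hyX (Subgroup.mem_centralizer_iff.mpr fun x hx => ?_)
    obtain ⟨h1, -⟩ := hfix ⟨x, hx⟩
    have he : (⟨x⁻¹ * y * x * y⁻¹, h1⟩ : X) ∈ M.normalCore := by
      intro g
      refine hmem.mpr ?_
      have ha := (hfix (⟨x, hx⟩ * g⁻¹)).2
      have hb := (hfix g⁻¹).2
      have := ha.mul_left hb.inv_left
      simpa [mul_assoc] using this
    rw [hcore, Subgroup.mem_bot] at he
    have he' : x⁻¹ * y * x * y⁻¹ = 1 := congrArg Subtype.val he
    rw [mul_inv_eq_one, mul_assoc, inv_mul_eq_iff_eq_mul] at he'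
    exact he'.symm
  · -- `|T| ≥ 8`
    have hclo : Subgroup.closure ({D'.a, D'.b} : Set X) = (T : Subgroup X) := by
      refine le_antisymm ((Subgroup.closure_le _).mpr ?_) fun g hg => ?_
      · rintro g (rfl | rfl)
        exacts [D'.ha, D'.hb]
      · have ha : D'.a ∈ Subgroup.closure ({D'.a, D'.b} : Set X) :=
          Subgroup.subset_closure (Set.mem_insert D'.a _)
        have hb : D'.b ∈ Subgroup.closure ({D'.a, D'.b} : Set X) :=
          Subgroup.subset_closure (Set.mem_insert_of_mem D'.a (Set.mem_singleton D'.b))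
        obtain ⟨n, rfl | rfl⟩ := (hinvT g).mp hg
        · exact Subgroup.zpow_mem _ ha n
        · exact Subgroup.mul_mem _ hb (Subgroup.zpow_mem _ ha n)
    have h8 := index_le_eight (D'.k + 2) (by omega) T
      (CfsgLib.TwoFusion.exists_dihedral_mulEquiv (pow_pos two_pos _) D'.order_a D'.b_sq D'.inv
        D'.b_not_mem _ hinvT) D'.a D'.b D'.ha D'.hb D'.order_a
      (by simpa using D'.orderOf_refl 0) D'.inv hclo M hTM
      (by
        show ∃ g ∈ M, g * D'.a ^ 2 ^ D'.k * g⁻¹ = D'.b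
        rw [hzpow]
        exact hfuse i (by simp) _ hb')
      (by
        show ∃ g ∈ M, g * D'.a ^ 2 ^ D'.k * g⁻¹ = D'.a * D'.b
        rw [hzpow]
        refine hfuse (2 + i) (by simp) _ ?_
        rw [Subgroup.coe_mul, ha', hb', ← mul_assoc, ← zpow_add])
      (by
        show Subgroup.centralizer ({D'.a ^ 2 ^ D'.k} : Set X) ≤ M
        rw [hzpow]
        exact hcent)
    have hc : 2 ^ 3 ≤ Nat.card (T : Subgroup X) :=
      D'.card ▸ Nat.pow_le_pow_right two_pos (by omega)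
    omega

theorem four_free {u v x : G} (huX : u ∈ X) (hvX : v ∈ X) (hu : orderOf u = 2) (hv : orderOf v = 2)
    (huv : u ≠ v) (hc : Commute u v) (hxu : Commute x u) (hxv : Commute x v) :
    ∃ r : ℕ, x ^ 2 ^ r = 1 := by
  have hXn := o.core.normal
  have : Fact (Nat.Prime 2) := ⟨Nat.prime_two⟩
  obtain ⟨r, n, hn, hord⟩ : ∃ r n : ℕ, Odd n ∧ orderOf x = 2 ^ r * n :=
    ⟨_, _, Nat.not_even_iff_odd.mp fun he =>
      (Nat.not_dvd_ordCompl Nat.prime_two (orderOf_pos x).ne') he.two_dvd,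
      (Nat.ordProj_mul_ordCompl_eq_self (orderOf x) 2).symm⟩
  refine ⟨r, ?_⟩
  have hyo : Odd (orderOf (x ^ 2 ^ r)) := by
    rwa [orderOf_pow_of_dvd (by positivity) (hord ▸ dvd_mul_right _ _), hord,
      Nat.mul_div_cancel_left _ (by positivity)]
  obtain ⟨-, -, hone⟩ := o.core.structure_facts D
  obtain ⟨g, hg, hgu⟩ := hone u huX D.z o.zD_mem hu D.orderOf_z
  obtain ⟨v', hv'⟩ : ∃ v', v' = g * v * g⁻¹ := ⟨_, rfl⟩
  have hv'c : Commute v' D.z := by
    rw [hv', ← hgu]
    exact (hc.symm.map (MulAut.conj g).toMonoidHom)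
  obtain ⟨M, hM⟩ : ∃ M, M = X ⊓ Subgroup.centralizer ({D.z} : Set G) := ⟨_, rfl⟩
  have hmem : ∀ {w : G}, w ∈ M ↔ w ∈ X ∧ Commute w D.z := fun {w} => by
    rw [hM, Subgroup.mem_inf, Subgroup.mem_centralizer_singleton_iff]; rfl
  have hRM : (S : Subgroup G) ⊓ X ≤ M := fun t ht => hmem.mpr ⟨ht.2, (D.z_comm ht.1).symm⟩
  have hodd : Odd (((S : Subgroup G) ⊓ X).relIndex M) := by
    have h1 := TwoFusion.FusionTools.odd_relIndex_inf (S : Subgroup G) X
      (TwoFusion.FusionTools.sylow_index_odd S)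
    rw [← Subgroup.relIndex_mul_relIndex _ M X hRM (hM ▸ inf_le_left)] at h1
    exact (Nat.odd_mul.mp h1).1
  have hv'o : orderOf v' = 2 := by rw [hv', Invol.orderOf_conj, hv]
  obtain ⟨h, hh, hconj⟩ := TwoFusion.FusionTools.exists_conj_le M _ (Subgroup.zpowers v')
    (S.isPGroup'.to_le inf_le_left) hRM hodd
    (IsPGroup.of_card (n := 1) (by rw [Nat.card_zpowers, hv'o, pow_one]))
    (Subgroup.zpowers_le.mpr (hmem.mpr ⟨hv' ▸ X.mul_mem (X.mul_mem hg hvX) (X.inv_mem hg), hv'c⟩))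
  obtain ⟨hwS, hwX⟩ := hconj v' (mem_zpowers v')
  have hhc := (hmem.mp hh).2
  have hzc : (h * g) * u * (h * g)⁻¹ = D.z := by
    calc (h * g) * u * (h * g)⁻¹ = h * (g * u * g⁻¹) * h⁻¹ := by group
      _ = D.z := by rw [hgu, hhc.eq, mul_inv_cancel_right]
  rcases involution_cases D hwS (by rw [Invol.orderOf_conj, hv'o]) with e | ⟨j, e⟩
  · refine absurd ?_ huv
    have : (h * g) * v * (h * g)⁻¹ = (h * g) * u * (h * g)⁻¹ := by
      rw [hzc, ← e, hv']; group
    exact (mul_left_cancel (mul_right_cancel this)).symm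
  · have hj := (o.hrefl j).mp (e ▸ hwX)
    have hy : o.InD ((h * g) * x ^ 2 ^ r * (h * g)⁻¹) := by
      refine o.inD_of_commute_refl ⟨?_, ?_⟩ hj ?_
      · rw [← hzc]
        exact ((hxu.pow_left _).map (MulAut.conj (h * g)).toMonoidHom)
      · rw [Invol.orderOf_conj]; exact hyo
      · rw [← e, hv', show h * (g * v * g⁻¹) * h⁻¹ = (h * g) * v * (h * g)⁻¹ by group]
        exact ((hxv.pow_left _).map (MulAut.conj (h * g)).toMonoidHom)
    exact conj_eq_one_iff.mp (o.inD_eq_one hy)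

/-- `X` has index two. -/
theorem mul_mem_of_not_mem {g g' : G} (hg : g ∉ X) (hg' : g' ∉ X) : g * g' ∈ X := by
  have hXn := o.core.normal
  obtain ⟨U, hU, hdec⟩ := o.exists_U
  obtain ⟨-, -, hone⟩ := o.core.structure_facts D
  have hUX : ∀ u ∈ U, u ∈ X := by
    intro u hu
    have hinv := inverts_of_fpf (t := D.a ^ i * D.b) (D.refl_sq i)
      (fun x hx => (hU _).mpr (((hU x).mp hx).conj (D.z_comm (D.refl_mem i)).symm))
      (fun x hx hc => o.inD_eq_one ⟨(hU x).mp hx, hc⟩) u hu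
    have h1 : D.a ^ i * D.b * u * (D.a ^ i * D.b)⁻¹ * u⁻¹ ∈ X := by
      rw [mul_assoc, mul_assoc, ← mul_assoc u]
      exact X.mul_mem o.hi (hXn.conj_mem _ (X.inv_mem o.hi) u)
    rw [hinv] at h1
    obtain ⟨n, hn⟩ := ((hU u).mp hu).2
    have h2 := X.inv_mem h1
    rw [mul_inv_rev, inv_inv] at h2
    have h3 := X.pow_mem h2 (n + 1)
    rwa [← pow_two, ← pow_mul, show 2 * (n + 1) = orderOf u + 1 by omega, pow_succ,
      pow_orderOf_eq_one, one_mul] at h3
  have hXS : ∀ g : G, ∃ x ∈ X, ∃ t ∈ (S : Subgroup G), g = x * t := by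
    intro g
    obtain ⟨h, hh, he⟩ := hone D.z o.zD_mem _ (hXn.conj_mem _ o.zD_mem g) D.orderOf_z
      (by rw [Invol.orderOf_conj]; exact D.orderOf_z)
    obtain ⟨u, hu, t, ht, hut⟩ := hdec (h⁻¹ * g) (mul_inv_eq_iff_eq_mul.mp (by
      calc h⁻¹ * g * D.z * (h⁻¹ * g)⁻¹ = h⁻¹ * (g * D.z * g⁻¹) * h := by group
        _ = D.z := by rw [← he]; group))
    exact ⟨h * u, X.mul_mem hh (hUX u hu), t, ht, by rw [mul_assoc, ← hut, mul_inv_cancel_left]⟩
  have hpar : ∀ t ∈ (S : Subgroup G), t ∉ X → ∀ t' ∈ (S : Subgroup G), t' ∉ X → t * t' ∈ X := by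
    intro t ht htX t' ht' htX'
    obtain ⟨j, rfl | rfl⟩ := D.cases t ht <;> obtain ⟨l, rfl | rfl⟩ := D.cases t' ht'
    · rw [← zpow_add, o.hev, Int.even_add]
      rw [o.hev] at htX htX'
      exact iff_of_false htX htX'
    · rw [← mul_assoc, ← zpow_add, o.hrefl, add_sub_assoc, Int.even_add]
      rw [o.hev] at htX; rw [o.hrefl] at htX'
      exact iff_of_false htX htX'
    · rw [mul_assoc, D.b_mul_zpow, ← mul_assoc, ← zpow_add, o.hrefl,
        show j + -l - i = (j - i) + -l by ring, Int.even_add, even_neg]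
      rw [o.hev] at htX'; rw [o.hrefl] at htX
      exact iff_of_false htX htX'
    · rw [D.refl_mul_refl, o.hev, show j - l = (j - i) - (l - i) by ring, Int.even_sub]
      rw [o.hrefl] at htX htX'
      exact iff_of_false htX htX'
  obtain ⟨x, hx, t, ht, rfl⟩ := hXS g
  obtain ⟨x', hx', t', ht', rfl⟩ := hXS g'
  rw [show x * t * (x' * t') = x * (t * x' * t⁻¹) * (t * t') by group]
  exact X.mul_mem (X.mul_mem hx (hXn.conj_mem _ hx' t))
    (hpar t ht (fun h => hg (X.mul_mem hx h)) t' ht' fun h => hg' (X.mul_mem hx' h))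

end Outer

end CfsgLib.DGroupCent
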