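import Cfsg.Agent.Lib.DGroupCent.OneFree
import Cfsg.Agent.Lib.CyclicNorm.Final
import Cfsg.Agent.Lib.Zassenhaus.Setting

/-!
# Rank one with dihedral Sylow 2-subgroups: the group is `PSL₂(q)` or `PGL₂(q)`

The perfect core has four-groups with `2`-groups as centralizers and index at most two, so it is
recognised as `PSL₂(q)` and the whole group is that or `PGL₂(q)`.
-/

set_option autoImplicit false
set_option linter.unusedSectionVars false

namespace CfsgLib.DGroupCent

open Subgroup CfsgLib.TwoFusion.DihedralFusion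

universe u

/-- The recognition of `PSL₂(q)` by dihedral Sylow subgroups and four-groups with `2`-groups as
centralizers. -/
def FourFreeRec : Prop :=
  ∀ (X : Type u) [Group X] [Finite X], IsSimpleGroup X → ¬ IsMulCommutative X →
    ∀ (T : Sylow 2 X) (n : ℕ), 2 ≤ n → Nonempty ((T : Subgroup X) ≃* DihedralGroup n) →
    (∀ u v x : X, orderOf u = 2 → orderOf v = 2 → u ≠ v → Commute u v → Commute x u →
      Commute x v → ∃ r : ℕ, x ^ 2 ^ r = 1) →
    ∃ (F : Type) (_ : Field F) (_ : Fintype F), Odd (Fintype.card F) ∧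
      Nonempty (X ≃* Matrix.ProjectiveSpecialLinearGroup (Fin 2) F)

variable {G : Type u} [Group G] [Finite G]

theorem ne_one_of_order_two {t : G} (ht : orderOf t = 2) : t ≠ 1 := fun e => by
  simp [e] at ht

/-- No three independent commuting involutions when the Sylow subgroups are dihedral. -/
theorem no_three {S : Sylow 2 G} (D : DihGens (S : Subgroup G)) {x y w : G} (hx : orderOf x = 2)
    (hy : orderOf y = 2) (hw : orderOf w = 2) (hxy : Commute x y) (hxw : Commute x w)
    (hyw : Commute y w) (hne : x ≠ y) (hwx : w ≠ x) (hwy : w ≠ y) (hwxy : w ≠ x * y) : False := by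
  obtain ⟨E, hE⟩ : ∃ E, E = Subgroup.closure ({x, y, w} : Set G) := ⟨_, rfl⟩
  have hcomm : ∀ a ∈ E, ∀ b ∈ E, Commute a b := by
    have h1 : E ≤ Subgroup.centralizer ({x, y, w} : Set G) := by
      rw [hE, Subgroup.closure_le]
      rintro a (rfl | rfl | rfl) b (rfl | rfl | rfl)
      exacts [rfl, hxy.symm.eq, hxw.symm.eq, hxy.eq, rfl, hyw.symm.eq, hxw.eq, hyw.eq, rfl]
    intro a ha b hb
    have h2 : E ≤ Subgroup.centralizer ({a} : Set G) := by
      rw [hE, Subgroup.closure_le]
      exact fun c hc => Subgroup.mem_centralizer_singleton_iff.mpr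
        (Subgroup.mem_centralizer_iff.mp (h1 ha) c hc)
    exact (Subgroup.mem_centralizer_singleton_iff.mp (h2 hb)).symm
  have hsq : ∀ a ∈ E, a * a = 1 := by
    intro a ha
    rw [hE] at ha
    induction ha using Subgroup.closure_induction with
    | mem a ha =>
      rcases ha with rfl | rfl | rfl
      exacts [Invol.mul_self_eq_one hx, Invol.mul_self_eq_one hy, Invol.mul_self_eq_one hw]
    | one => exact one_mul 1
    | mul a b ha hb iha ihb =>
      rw [(hcomm b (hE ▸ hb) a (hE ▸ ha)).mul_mul_mul_comm, iha, ihb, one_mul]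
    | inv a _ iha => rw [← mul_inv_rev, iha, inv_one]
  obtain ⟨h, -, hconj⟩ := TwoFusion.FusionTools.exists_conj_le ⊤ (S : Subgroup G) E S.isPGroup'
    le_top (by rw [Subgroup.relIndex_top_right]; exact TwoFusion.FusionTools.sylow_index_odd S)
    (fun g => ⟨1, Subtype.ext (by rw [pow_one, pow_two]; exact hsq g g.2)⟩) le_top
  have hmem : ∀ a ∈ ({x, y, w} : Set G), h * a * h⁻¹ ∈ (S : Subgroup G) := fun a ha =>
    hconj a (hE ▸ Subgroup.subset_closure ha)
  obtain ⟨f, hf⟩ : ∃ f, f = MulAut.conj h := ⟨_, rfl⟩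
  have hfap : ∀ a, f a = h * a * h⁻¹ := fun a => by rw [hf]; rfl
  -- if one of the images is a reflection, the others lie in its four-group
  have key : ∀ p q s : G, f p ∈ (S : Subgroup G) → f q ∈ (S : Subgroup G) → f s ∈ (S : Subgroup G) →
      orderOf q = 2 → orderOf s = 2 → Commute p q → Commute p s →
      ∀ j : ℤ, f p = D.a ^ j * D.b → p ≠ q → p ≠ s → q ≠ s → s = p * q := by
    intro p q s hp hq hs hq2 hs2 hpq hps j hj hne1 hne2 hne3
    have hq4 := D.mem_four.mp (centralizer_four D j hq (hj ▸ (hpq.map f.toMonoidHom).symm.eq))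
    have hs4 := D.mem_four.mp (centralizer_four D j hs (hj ▸ (hps.map f.toMonoidHom).symm.eq))
    have hq1 : f q ≠ 1 := fun e => ne_one_of_order_two hq2 (f.map_eq_one_iff.mp e)
    have hs1 : f s ≠ 1 := fun e => ne_one_of_order_two hs2 (f.map_eq_one_iff.mp e)
    refine f.injective ?_
    rw [map_mul]
    rcases hq4 with e | e | e | e
    · exact absurd e hq1
    · rcases hs4 with e' | e' | e' | e'
      · exact absurd e' hs1
      · exact absurd (f.injective (e.trans e'.symm)) hne3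
      · exact absurd (f.injective (hj.trans e'.symm)) hne2
      · rw [e', e, hj]; exact (D.z_comm (D.refl_mem j)).eq
    · exact absurd (f.injective (hj.trans e.symm)) hne1
    · rcases hs4 with e' | e' | e' | e'
      · exact absurd e' hs1
      · rw [e', e, hj, (D.z_comm (D.refl_mem j)).eq, ← mul_assoc, D.refl_sq, one_mul]
      · exact absurd (f.injective (hj.trans e'.symm)) hne2
      · exact absurd (f.injective (e.trans e'.symm)) hne3
  have hxS : f x ∈ (S : Subgroup G) := hfap x ▸ hmem x (Set.mem_insert _ _)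
  have hyS : f y ∈ (S : Subgroup G) :=
    hfap y ▸ hmem y (Set.mem_insert_of_mem _ (Set.mem_insert _ _))
  have hwS : f w ∈ (S : Subgroup G) :=
    hfap w ▸ hmem w (Set.mem_insert_of_mem _ (Set.mem_insert_of_mem _ rfl))
  have hxo : orderOf (f x) = 2 := (MulEquiv.orderOf_eq f x).trans hx
  have hyo : orderOf (f y) = 2 := (MulEquiv.orderOf_eq f y).trans hy
  rcases involution_cases D hxS hxo with hzx | ⟨j, hj⟩
  · rcases involution_cases D hyS hyo with hzy | ⟨j, hj⟩
    · exact hne (f.injective (hzx.trans hzy.symm))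
    · exact hwxy ((key y x w hyS hxS hwS hx hw hxy.symm hyw j hj hne.symm hwy.symm hwx.symm).trans
        hxy.symm.eq)
  · exact hwxy (key x y w hxS hyS hwS hy hw hxy hxw j hj hne hwx.symm hwy.symm)

theorem not_isSolvable_of_simple {X : Type*} [Group X] (h : IsSimpleGroup X)
    (hnc : ¬ IsMulCommutative X) : ¬ Group.IsSolvable X := fun hs =>
  hnc ⟨⟨IsSimpleGroup.comm_iff_isSolvable.2 hs⟩⟩

theorem three_lt_card {X : Type*} [Group X] [Finite X] (hX : ¬ Group.IsSolvable X) {F : Type}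
    [Field F] [Fintype F] (hodd : Odd (Fintype.card F))
    (e : X ≃* Matrix.ProjectiveSpecialLinearGroup (Fin 2) F) : 3 < Fintype.card F := by
  classical
  by_contra hle
  have hF2 : 1 < Fintype.card F := Fintype.one_lt_card
  obtain ⟨k, hk⟩ := hodd
  have h3 : Fintype.card F = 3 := by omega
  refine hX (CfsgLib.Zassenhaus.isSolvable_of_card_dvd_twentyfour ?_)
  rw [Nat.card_congr e.toEquiv]
  refine (Subgroup.card_quotient_dvd_card _).trans ?_
  rw [CfsgLib.Linear.card_SL_two, h3]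
  norm_num

namespace One

variable {H A : Subgroup G} {z : G} (s : One H A z) {X : Subgroup G} {S : Sylow 2 G}

include s

theorem inner_data (hX : Core X) (D : DihGens (S : Subgroup G)) (hzX : z ∈ X) :
    ∀ u v x : G, u ∈ X → v ∈ X → orderOf u = 2 → orderOf v = 2 → u ≠ v → Commute u v →
      Commute x u → Commute x v → ∃ r, r ∈ X ∧ r ∈ H ∧ r ∉ A ∧ x * x = 1 := by
  obtain ⟨-, -, hone⟩ := hX.structure_facts D
  intro u v x huX hvX hu hv hne hc hxu hxv
  obtain ⟨g, hg, hgu⟩ := hone u huX z hzX hu s.hz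
  obtain ⟨f, hf⟩ : ∃ f, f = (MulAut.conj g) := ⟨_, rfl⟩
  have hfu : f u = z := by rw [hf, MulAut.conj_apply, hgu]
  have hvH : f v ∈ H := s.mem_H_iff.mpr (hfu ▸ hc.symm.map f.toMonoidHom)
  have hvA : f v ∉ A := fun h => by
    rcases s.huniq _ h (by rw [← map_mul, Invol.mul_self_eq_one hv, map_one]) with e | e
    · exact ne_one_of_order_two hv (f.map_eq_one_iff.mp e)
    · exact hne (f.injective (hfu.trans e.symm))
  refine ⟨f v, ?_, hvH, hvA, ?_⟩
  · rw [hf, MulAut.conj_apply]; exact X.mul_mem (X.mul_mem hg hvX) (X.inv_mem hg)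
  · refine f.injective ?_
    rw [map_mul, map_one]
    exact s.sq_eq_one_of_commute_refl hvH hvA
      (s.mem_H_iff.mpr (hfu ▸ hxu.map f.toMonoidHom)) (hxv.map f.toMonoidHom)

theorem inner_mul_mem (hX : Core X) (D : DihGens (S : Subgroup G)) (hzX : z ∈ X) {g g' : G}
    (hg : g ∉ X) (hg' : g' ∉ X) : g * g' ∈ X := by
  have hXn := hX.normal
  obtain ⟨-, -, hone⟩ := hX.structure_facts D
  obtain ⟨r, hrX, hr, hrA⟩ : ∃ r, r ∈ X ∧ r ∈ H ∧ r ∉ A := by
    obtain ⟨i, hiX⟩ : ∃ i : ℤ, D.a ^ i * D.b ∈ X ∧ D.z ∈ X := by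
      rcases hX.inf_cases D with h | ⟨i, hk, hi, -, hev, -⟩
      · exact ⟨0, h (D.refl_mem 0), h D.z_mem_S⟩
      · refine ⟨i, hi, (hev _).mpr ⟨2 ^ (D.k - 1), ?_⟩⟩
        rw [← two_mul, ← pow_succ', show D.k - 1 + 1 = D.k from Nat.sub_add_cancel hk]
        push_cast
        rfl
    obtain ⟨r, hrX, hr, hrA, -⟩ := s.inner_data hX D hzX D.z (D.a ^ i * D.b) 1 hiX.2 hiX.1
      D.orderOf_z (D.orderOf_refl i) (D.z_ne_refl i) (D.z_comm (D.refl_mem i))
      (Commute.one_left _) (Commute.one_left _)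
    exact ⟨r, hrX, hr, hrA⟩
  have hdec : ∀ g : G, ∃ x ∈ X, ∃ a ∈ A, g = x * a := by
    intro g
    obtain ⟨h, hh, he⟩ := hone z hzX _ (hXn.conj_mem _ hzX g) s.hz
      (by rw [Invol.orderOf_conj]; exact s.hz)
    have hH : h⁻¹ * g ∈ H := s.mem_H_iff.mpr (mul_inv_eq_iff_eq_mul.mp (by
      calc h⁻¹ * g * z * (h⁻¹ * g)⁻¹ = h⁻¹ * (g * z * g⁻¹) * h := by group
        _ = z := by rw [← he]; group))
    by_cases hA : h⁻¹ * g ∈ A
    · exact ⟨h, hh, _, hA, (mul_inv_cancel_left h g).symm⟩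
    · refine ⟨h * r, X.mul_mem hh hrX, _, s.hidx r hr hrA _ hH hA, ?_⟩
      rw [← mul_assoc, mul_assoc h r r, s.hinvol r hr hrA, mul_one, mul_inv_cancel_left]
  have hsqX : ∀ a ∈ A, a * a ∈ X := by
    intro a ha
    have h1 : r * a * r⁻¹ * a⁻¹ ∈ X := by
      rw [mul_assoc, mul_assoc, ← mul_assoc a]
      exact X.mul_mem hrX (hXn.conj_mem _ (X.inv_mem hrX) a)
    rw [s.hinverts r hr hrA a ha, ← mul_inv_rev] at h1
    exact X.inv_mem_iff.mp h1
  have hpar : ∀ a ∈ A, a ∉ X → ∀ a' ∈ A, a' ∉ X → a * a' ∈ X := by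
    intro a ha haX a' ha' haX'
    let f : A →* A := MonoidHom.mk' (fun b => b * b) fun b c => Subtype.ext
      (show ((b : G) * c) * ((b : G) * c) = ((b : G) * b) * ((c : G) * c) from
        (s.comm_A c.2 b.2).mul_mul_mul_comm _ _)
    have hle : f.range.index ≤ 2 := by
      have h1 : f.range.index = Nat.card f.ker := by
        have h2 := Subgroup.index_mul_card f.range
        have h3 := Subgroup.index_mul_card f.ker
        rw [Subgroup.index_ker] at h3
        refine Nat.eq_of_mul_eq_mul_right (Nat.card_pos (α := f.range)) ?_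
        rw [h2, mul_comm, h3]
      rw [h1]
      classical
      refine le_trans (Nat.card_le_card_of_injective
        (fun b : f.ker => if (b : A) = 1 then (0 : Fin 2) else 1) ?_) (by simp)
      intro b c e
      have hb : ∀ b : f.ker, (b : A) = 1 ∨ ((b : A) : G) = z := fun b => by
        rcases s.huniq _ (b : A).2 (congrArg Subtype.val (MonoidHom.mem_ker.mp b.2)) with h | h
        exacts [Or.inl (Subtype.ext h), Or.inr h]
      by_cases hb1 : (b : A) = 1 <;> by_cases hc1 : (c : A) = 1 <;> simp [hb1, hc1] at e ⊢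
      · exact Subtype.ext (hb1.trans hc1.symm)
      · exact Subtype.ext (Subtype.ext (((hb b).resolve_left hb1).trans
          ((hb c).resolve_left hc1).symm))
    have hin : ∀ w : A, w ∈ f.range → (w : G) ∈ X := by
      rintro _ ⟨b, rfl⟩
      exact hsqX b b.2
    have hpos : f.range.index ≠ 0 := Subgroup.index_ne_zero_of_finite
    have hi2 : f.range.index = 1 ∨ f.range.index = 2 := by omega
    rcases hi2 with h | h
    · exact absurd (hin ⟨a, ha⟩ ((Subgroup.index_eq_one.mp h).symm ▸ Subgroup.mem_top _)) haX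
    · exact hin (⟨a, ha⟩ * ⟨a', ha'⟩) ((Subgroup.mul_mem_iff_of_index_two h).mpr
        (iff_of_false (fun h' => haX (hin _ h')) fun h' => haX' (hin _ h')))
  obtain ⟨x, hx, a, ha, rfl⟩ := hdec g
  obtain ⟨x', hx', a', ha', rfl⟩ := hdec g'
  rw [show x * a * (x' * a') = x * (a * x' * a⁻¹) * (a * a') by group]
  exact X.mul_mem (X.mul_mem hx (hXn.conj_mem _ hx' a))
    (hpar a ha (fun h => hg (X.mul_mem hx h)) a' ha' fun h => hg' (X.mul_mem hx' h))

/-- The dihedral case. -/
theorem dihedral_case (hrec : FourFreeRec.{u}) (hO : Cfsg.oddCore G = ⊥)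
    (hzS : z ∈ (S : Subgroup G)) {n : ℕ} (hn : 2 ≤ n)
    (e : (S : Subgroup G) ≃* DihedralGroup n) :
    ∃ (F : Type) (_ : Field F) (_ : Fintype F), 3 < Fintype.card F ∧ Odd (Fintype.card F) ∧
      (Nonempty (G ≃* Matrix.ProjectiveSpecialLinearGroup (Fin 2) F) ∨
        Nonempty (G ≃* Matrix.ProjGenLinGroup (Fin 2) F)) := by
  obtain ⟨D⟩ := exists_dihGens S.isPGroup' hn e
  obtain ⟨X, hXn, hperf, hne⟩ := exists_perfect_normal s.hns
  have hX : Core X := ⟨hXn, hperf, hne, hO⟩
  obtain ⟨hsimple, hnc, -⟩ := hX.structure_facts D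
  obtain ⟨hfree, hmul⟩ : (∀ u v x : G, u ∈ X → v ∈ X → orderOf u = 2 → orderOf v = 2 → u ≠ v →
      Commute u v → Commute x u → Commute x v → ∃ r : ℕ, x ^ 2 ^ r = 1) ∧
      (∀ g g' : G, g ∉ X → g' ∉ X → g * g' ∈ X) := by
    by_cases hzX : z ∈ X
    · refine ⟨fun u v x hu hv h1 h2 h3 h4 h5 h6 => ⟨1, ?_⟩,
        fun g g' hg hg' => s.inner_mul_mem hX D hzX hg hg'⟩
      obtain ⟨_, _, _, _, hx2⟩ := s.inner_data hX D hzX u v x hu hv h1 h2 h3 h4 h5 h6
      rw [pow_one, pow_two, hx2]
    · rcases hX.inf_cases D with h | ⟨i, hk, hi, ha2, hev, hrefl⟩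
      · exact absurd (h hzS) hzX
      have o : Outer H A z X D i := ⟨s, hX, hzS, hzX, hk, hi, ha2, hev, hrefl⟩
      exact ⟨fun u v x hu hv h1 h2 h3 h4 h5 h6 => o.four_free hu hv h1 h2 h3 h4 h5 h6,
        fun g g' hg hg' => o.mul_mem_of_not_mem hg hg'⟩
  obtain ⟨T, hT⟩ := hX.exists_sylow S
  obtain ⟨n', hn', hTiso⟩ := hX.sylow_dihedral D T hT n hn e
  obtain ⟨F, instF, instFin, hodd, ⟨ψ⟩⟩ := hrec X hsimple hnc T n' hn' hTiso fun u v x hu hv huv hc hxu hxv => by
    obtain ⟨r, hr⟩ := hfree u v x u.2 v.2 (by rwa [Subgroup.orderOf_coe])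
      (by rwa [Subgroup.orderOf_coe]) (fun h => huv (Subtype.ext h)) (hc.map X.subtype)
      (hxu.map X.subtype) (hxv.map X.subtype)
    exact ⟨r, Subtype.ext (by rw [Subgroup.coe_pow, hr, Subgroup.coe_one])⟩
  refine ⟨F, instF, instFin, three_lt_card (not_isSolvable_of_simple hsimple hnc) hodd ψ, hodd, ?_⟩
  by_cases htop : X = ⊤
  · exact Or.inl ⟨(Subgroup.topEquiv.symm.trans (MulEquiv.subgroupCongr htop.symm)).trans ψ⟩
  obtain ⟨t, ht, htX⟩ : ∃ t : G, orderOf t = 2 ∧ t ∉ X := by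
    by_cases hzX : z ∈ X
    · rcases hX.inf_cases D with h | ⟨i, -, -, -, -, hrefl⟩
      · exfalso
        obtain ⟨g, hg⟩ : ∃ g, g ∉ X := by
          by_contra! h'
          exact htop ((Subgroup.eq_top_iff' X).mpr h')
        have hidx : X.index = 2 := by
          rw [Subgroup.index_eq_two_iff]
          refine ⟨g, fun b => ?_⟩
          by_cases hb : b ∈ X
          · exact Or.inr ⟨hb, fun hm => hg ((X.mul_mem_cancel_left hb).mp hm)⟩
          · exact Or.inl ⟨hmul b g hb hg, hb⟩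
        have := (TwoFusion.FusionTools.sylow_index_odd S).of_dvd_nat (Subgroup.index_dvd_of_le h)
        rw [hidx] at this
        exact absurd this (by decide)
      · exact ⟨D.a ^ (i + 1) * D.b, D.orderOf_refl _, fun h => by
          have := (hrefl _).mp h
          simp at this⟩
    · exact ⟨z, s.hz, hzX⟩
  exact Or.inr (CfsgLib.CyclicNorm.equiv_pgl hodd ψ (hX.centralizer_eq_bot D) ht htX
    (fun g => (em (g ∈ X)).imp id fun h => hmul g t h htX)
    fun x y w hx hy hw a b c d e f g => no_three D hx hy hw a b c d e f g)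

end One

end CfsgLib.DGroupCent
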