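import Cfsg.Agent.Lib.DGroupCent.OneCore
import Cfsg.Agent.S0514

/-!
# Rank one with the involution outside the perfect core: the centralizer of the central involution

`z` lies outside the perfect core `X`; `c = D.z` is the central involution of a dihedral Sylow
subgroup containing `z`. The odd part `U` of the centralizer of `c` is inverted by every reflection
outside `X`, and fusion in the four-groups of `X` is realised inside the centralizer of
`D₀ = C_U(d)`.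
-/

set_option autoImplicit false
set_option linter.unusedSectionVars false

namespace CfsgLib.DGroupCent

open Subgroup CfsgLib.TwoFusion.DihedralFusion CfsgLib.TwoFusion.LocalAut

variable {G : Type*} [Group G] [Finite G]

/-- The setting. -/
structure Outer (H A : Subgroup G) (z : G) (X : Subgroup G) {S : Sylow 2 G}
    (D : DihGens (S : Subgroup G)) (i : ℤ) : Prop where
  one : One H A z
  core : Core X
  hzS : z ∈ (S : Subgroup G)
  hzX : z ∉ X
  hk : 1 ≤ D.k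
  hi : D.a ^ i * D.b ∈ X
  ha2 : D.a ^ (2 : ℤ) ∈ X
  hev : ∀ n : ℤ, D.a ^ n ∈ X ↔ Even n
  hrefl : ∀ j : ℤ, D.a ^ j * D.b ∈ X ↔ Even (j - i)

/-- An element of odd order commuting with `c`. -/
def InU (c x : G) : Prop := Commute x c ∧ Odd (orderOf x)

theorem InU.conj {c x g : G} (hx : InU c x) (hg : Commute g c) : InU c (g * x * g⁻¹) := by
  refine ⟨(hg.mul_left hx.1).mul_left hg.inv_left, ?_⟩
  rw [show g * x * g⁻¹ = MulAut.conj g x from rfl, MulEquiv.orderOf_eq]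
  exact hx.2

namespace Outer

variable {H A : Subgroup G} {z : G} {X : Subgroup G} {S : Sylow 2 G}
  {D : DihGens (S : Subgroup G)} {i : ℤ} (o : Outer H A z X D i)

include o

theorem zD_mem : D.z ∈ X := (o.hev _).mpr ⟨2 ^ (D.k - 1), by
  rw [← two_mul, ← pow_succ', show D.k - 1 + 1 = D.k from Nat.sub_add_cancel o.hk]
  push_cast
  rfl⟩

theorem exists_z_eq : ∃ l : ℤ, z = D.a ^ l * D.b ∧ ¬ Even (l - i) := by
  obtain ⟨l, h | h⟩ := D.cases z o.hzS
  · rcases D.rot_sq_eq_one (x := z) ⟨l, h.symm⟩ o.one.z_sq with e | e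
    · exact absurd e o.one.z_ne
    · exact absurd (e ▸ o.zD_mem) o.hzX
  · exact ⟨l, h, fun he => o.hzX (h ▸ (o.hrefl l).mpr he)⟩

theorem commute_z_cases {x : G} (hxz : Commute x z) (hxc : Commute x D.z) :
    x = 1 ∨ x = z ∨ x = D.z ∨ x = D.z * z := by
  have hcH : D.z ∈ H := o.one.mem_H_iff.mpr (D.z_comm o.hzS)
  have hcA : D.z ∉ A := fun h => by
    rcases o.one.huniq D.z h D.z_sq with e | e
    · exact D.z_ne_one e
    · exact o.hzX (e ▸ o.zD_mem)
  exact o.one.commute_refl_cases hcH hcA (o.one.mem_H_iff.mpr hxz) hxc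

theorem inU_eq_one_of_commute_z {x : G} (hx : InU D.z x) (hxz : Commute x z) : x = 1 := by
  have hsq : x * x = 1 := by
    rcases o.commute_z_cases hxz hx.1 with h | h | h | h <;> rw [h]
    · exact one_mul 1
    · exact o.one.z_sq
    · exact D.z_sq
    · rw [(D.z_comm o.hzS).symm.mul_mul_mul_comm, D.z_sq, o.one.z_sq, one_mul]
  by_contra h1
  have := hx.2
  rw [Invol.orderOf_eq_two h1 hsq] at this
  exact absurd this (by decide)

/-- The odd elements of the centralizer of `c` form a subgroup with complement `S`. -/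
theorem exists_U : ∃ U : Subgroup G, (∀ x, x ∈ U ↔ InU D.z x) ∧
    ∀ x, Commute x D.z → ∃ u ∈ U, ∃ t ∈ (S : Subgroup G), x = u * t := by
  obtain ⟨m, hm⟩ : ∃ m, m = 2 ^ (D.k + 1) := ⟨_, rfl⟩
  have hm2 : 2 ≤ m := hm ▸ Nat.le_self_pow (by omega) 2
  obtain ⟨e⟩ := CfsgLib.TwoFusion.exists_dihedral_mulEquiv (by omega : 0 < m) (hm ▸ D.order_a)
    D.b_sq D.inv D.b_not_mem (S : Subgroup G) (fun g => by
      constructor
      · intro hg
        obtain ⟨j, rfl | rfl⟩ := D.cases g hg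
        · exact ⟨j, Or.inl rfl⟩
        · exact ⟨-j, Or.inr (by rw [D.b_mul_zpow, neg_neg])⟩
      · rintro ⟨j, rfl | rfl⟩
        exacts [(S : Subgroup G).zpow_mem D.ha j,
          (S : Subgroup G).mul_mem D.hb ((S : Subgroup G).zpow_mem D.ha j)])
  obtain ⟨N, hN, hNodd, j, hj⟩ := Cfsg.Agent.S0514.result S m hm2 ⟨e⟩ D.z D.orderOf_z
  have := hN
  obtain ⟨C, hC⟩ : ∃ C, C = Subgroup.centralizer ({D.z} : Set G) := ⟨_, rfl⟩
  have hSC : (S : Subgroup G) ≤ C := fun t ht => by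
    rw [hC, Subgroup.mem_centralizer_singleton_iff]
    exact (D.z_comm ht).eq.symm
  have hmemC : ∀ {x : G}, Commute x D.z → x ∈ Subgroup.centralizer ({D.z} : Set G) := fun h =>
    Subgroup.mem_centralizer_singleton_iff.mpr h.eq
  have hin : ∀ x : Subgroup.centralizer ({D.z} : Set G), Odd (orderOf x) → x ∈ N := by
    intro x hx
    rw [← QuotientGroup.eq_one_iff (N := N), ← orderOf_eq_one_iff]
    refine Nat.eq_one_of_dvd_coprimes ((Nat.coprime_two_right.mpr hx).pow_right j)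
      (orderOf_map_dvd (QuotientGroup.mk' N) x) ?_
    rw [← hj, Subgroup.index_eq_card]
    exact orderOf_dvd_natCard (x : _ ⧸ N)
  refine ⟨N.map (Subgroup.centralizer ({D.z} : Set G)).subtype, fun x => ⟨?_, ?_⟩, fun x hx => ?_⟩
  · rintro ⟨y, hy, rfl⟩
    refine ⟨Subgroup.mem_centralizer_singleton_iff.mp y.2, ?_⟩
    rw [Subgroup.subtype_apply, Subgroup.orderOf_coe]
    exact hNodd.of_dvd_nat (Subgroup.orderOf_dvd_natCard N hy)
  · rintro ⟨hc, ho⟩
    exact ⟨⟨x, hmemC hc⟩, hin _ (by rwa [Subgroup.orderOf_mk]), rfl⟩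
  · have hSC' : (S : Subgroup G) ≤ Subgroup.centralizer ({D.z} : Set G) := hC ▸ hSC
    obtain ⟨S', hS'⟩ : ∃ S', S' = (S : Subgroup G).subgroupOf
        (Subgroup.centralizer ({D.z} : Set G)) := ⟨_, rfl⟩
    have htop : N ⊔ S' = ⊤ := by
      rw [← Subgroup.index_eq_one]
      have h1 : (N ⊔ S').index ∣ 2 ^ j := hj ▸ Subgroup.index_dvd_of_le le_sup_left
      have h2 : Odd (N ⊔ S').index := by
        refine (TwoFusion.FusionTools.sylow_index_odd S).of_dvd_nat
          (dvd_trans (Subgroup.index_dvd_of_le (le_sup_right (a := N))) ?_)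
        rw [hS', ← Subgroup.relIndex]
        exact Dvd.intro _ (Subgroup.relIndex_mul_index hSC')
      exact Nat.eq_one_of_dvd_coprimes ((Nat.coprime_two_right.mpr h2).pow_right j) dvd_rfl h1
    obtain ⟨u, hu, t, ht, hut⟩ := Subgroup.mem_sup_of_normal_left.mp
      (htop ▸ mem_top (⟨x, hmemC hx⟩ : Subgroup.centralizer ({D.z} : Set G)))
    refine ⟨u, Subgroup.mem_map_of_mem _ hu, t, ?_, (congrArg Subtype.val hut).symm⟩
    rw [hS'] at ht
    exact ht

theorem z_inverts {x : G} (hx : InU D.z x) : z * x * z⁻¹ = x⁻¹ := by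
  obtain ⟨U, hU, -⟩ := o.exists_U
  refine inverts_of_fpf o.one.z_sq (fun y hy => (hU _).mpr ?_)
    (fun y hy hc => o.inU_eq_one_of_commute_z ((hU y).mp hy) hc) x ((hU x).mpr hx)
  exact ((hU y).mp hy).conj (D.z_comm o.hzS).symm

theorem commute_inU {x y : G} (hx : InU D.z x) (hy : InU D.z y) : Commute x y := by
  obtain ⟨U, hU, -⟩ := o.exists_U
  have hxy := o.z_inverts ((hU _).mp (U.mul_mem ((hU x).mpr hx) ((hU y).mpr hy)))
  have h : (x * y)⁻¹ = x⁻¹ * y⁻¹ := by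
    rw [← hxy, ← o.z_inverts hx, ← o.z_inverts hy]
    group
  rw [mul_inv_rev] at h
  simpa using (show Commute y⁻¹ x⁻¹ from h).inv_inv.symm

/-- Every reflection outside `X` inverts `U`. -/
theorem outer_inverts {j : ℤ} (hj : ¬ Even (j - i)) {x : G} (hx : InU D.z x) :
    D.a ^ j * D.b * x * (D.a ^ j * D.b)⁻¹ = x⁻¹ := by
  obtain ⟨l, hl, hli⟩ := o.exists_z_eq
  obtain ⟨m, hm⟩ : Even (j - l) := by
    obtain ⟨p, hp⟩ := Int.not_even_iff_odd.mp hj
    obtain ⟨q, hq⟩ := Int.not_even_iff_odd.mp hli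
    exact ⟨p - q, by linarith⟩
  have e : D.a ^ j * D.b = D.a ^ m * z * (D.a ^ m)⁻¹ := by
    rw [hl, ← zpow_neg, ← mul_assoc, ← zpow_add, mul_assoc, D.b_mul_zpow, ← mul_assoc, ← zpow_add,
      neg_neg]
    congr 2
    linarith
  have hcm : Commute (D.a ^ m) D.z := (D.z_comm ((S : Subgroup G).zpow_mem D.ha m)).symm
  have hinv := o.z_inverts (hx.conj hcm.inv_left)
  rw [inv_inv] at hinv
  rw [e]
  calc D.a ^ m * z * (D.a ^ m)⁻¹ * x * (D.a ^ m * z * (D.a ^ m)⁻¹)⁻¹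
      = D.a ^ m * (z * ((D.a ^ m)⁻¹ * x * D.a ^ m) * z⁻¹) * (D.a ^ m)⁻¹ := by group
    _ = x⁻¹ := by rw [hinv]; group

theorem rot_even_commute {n : ℤ} (hn : Even n) {x : G} (hx : InU D.z x) :
    Commute (D.a ^ n) x := by
  obtain ⟨l, -, hli⟩ := o.exists_z_eq
  have hln : ¬ Even (l + n - i) := by
    rw [show l + n - i = (l - i) + n by ring, Int.even_add]
    exact fun h => hli (h.mpr hn)
  have e : D.a ^ n = (D.a ^ (l + n) * D.b) * (D.a ^ l * D.b) := by
    rw [D.refl_mul_refl, add_sub_cancel_left]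
  have hinv : InU D.z x⁻¹ := ⟨hx.1.inv_left, by rw [orderOf_inv]; exact hx.2⟩
  refine mul_inv_eq_iff_eq_mul.mp ?_
  calc D.a ^ n * x * (D.a ^ n)⁻¹
      = (D.a ^ (l + n) * D.b) * ((D.a ^ l * D.b) * x * (D.a ^ l * D.b)⁻¹) *
        (D.a ^ (l + n) * D.b)⁻¹ := by rw [e]; group
    _ = x := by rw [o.outer_inverts hli hx, o.outer_inverts hln hinv, inv_inv]

/-- The centralizer of `d` in `U`. -/
def InD (_o : Outer H A z X D i) (y : G) : Prop := InU D.z y ∧ Commute y (D.a ^ i * D.b)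

theorem inD_commute_refl {y : G} (hy : o.InD y) {j : ℤ} (hj : Even (j - i)) :
    Commute y (D.a ^ j * D.b) := by
  rw [show D.a ^ j * D.b = D.a ^ (j - i) * (D.a ^ i * D.b) by
    rw [← mul_assoc, ← zpow_add, sub_add_cancel]]
  exact (o.rot_even_commute hj hy.1).symm.mul_right hy.2

theorem inD_of_commute_refl {y : G} (hy : InU D.z y) {j : ℤ} (hj : Even (j - i))
    (hc : Commute y (D.a ^ j * D.b)) : o.InD y := by
  refine ⟨hy, ?_⟩
  have hji : Even (i - j) := by simpa using hj.neg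
  rw [show D.a ^ i * D.b = D.a ^ (i - j) * (D.a ^ j * D.b) by
    rw [← mul_assoc, ← zpow_add, sub_add_cancel]]
  exact (o.rot_even_commute hji hy).symm.mul_right hc

theorem inD_commute_inf {y t : G} (hy : o.InD y) (ht : t ∈ (S : Subgroup G)) (htX : t ∈ X) :
    Commute y t := by
  obtain ⟨j, rfl | rfl⟩ := D.cases t ht
  · exact (o.rot_even_commute ((o.hev j).mp htX) hy.1).symm
  · exact o.inD_commute_refl hy ((o.hrefl j).mp htX)

theorem inD_sylow {t : G} (ht : t ∈ (S : Subgroup G)) :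
    (∀ y, o.InD y → t * y * t⁻¹ = y) ∨ (∀ y, o.InD y → t * y * t⁻¹ = y⁻¹) := by
  by_cases htX : t ∈ X
  · exact Or.inl fun y hy => by
      rw [(o.inD_commute_inf hy ht htX).symm.eq, mul_inv_cancel_right]
  obtain ⟨j, rfl | rfl⟩ := D.cases t ht
  · refine Or.inr fun y hy => ?_
    have hj : ¬ Even j := fun h => htX ((o.hev j).mpr h)
    have hij : ¬ Even (i + j - i) := by rwa [add_sub_cancel_left]
    have e : D.a ^ j = (D.a ^ (i + j) * D.b) * (D.a ^ i * D.b) := by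
      rw [D.refl_mul_refl, add_sub_cancel_left]
    calc D.a ^ j * y * (D.a ^ j)⁻¹
        = (D.a ^ (i + j) * D.b) * ((D.a ^ i * D.b) * y * (D.a ^ i * D.b)⁻¹) *
          (D.a ^ (i + j) * D.b)⁻¹ := by rw [e]; group
      _ = y⁻¹ := by rw [← hy.2.eq, mul_inv_cancel_right, o.outer_inverts hij hy.1]
  · exact Or.inr fun y hy => o.outer_inverts (fun h => htX ((o.hrefl j).mpr h)) hy.1

/-- The generators of the Sylow subgroup of `X`. -/
theorem exists_inner_gens (T : Sylow 2 X)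
    (hT : (T : Subgroup X) = ((S : Subgroup G) ⊓ X).subgroupOf X) :
    ∃ D' : DihGens (T : Subgroup X), D'.k + 1 = D.k ∧ (D'.a : G) = D.a ^ (2 : ℤ) ∧
      (D'.b : G) = D.a ^ i * D.b := by
  have hnat : D.a ^ (2 : ℤ) = D.a ^ 2 := zpow_natCast _ 2
  obtain ⟨k', hk'⟩ : ∃ k', D.k = k' + 1 := ⟨D.k - 1, by have := o.hk; omega⟩
  have hordA : orderOf (⟨D.a ^ (2 : ℤ), o.ha2⟩ : X) = 2 ^ (k' + 1) := by
    rw [Subgroup.orderOf_mk, hnat, orderOf_pow_of_dvd two_ne_zero
      (D.order_a ▸ dvd_pow_self 2 (by omega)), D.order_a, hk', pow_succ,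
      Nat.mul_div_cancel _ two_pos]
  have hinv : D.a ^ i * D.b * D.a ^ (2 : ℤ) * (D.a ^ i * D.b)⁻¹ = (D.a ^ (2 : ℤ))⁻¹ := by
    rw [show D.a ^ i * D.b * D.a ^ (2 : ℤ) * (D.a ^ i * D.b)⁻¹ =
      D.a ^ i * (D.b * D.a ^ (2 : ℤ) * D.b⁻¹) * (D.a ^ i)⁻¹ by group, D.b_conj_zpow]
    group
  have hmem : ∀ x : X, x ∈ (T : Subgroup X) ↔ (x : G) ∈ (S : Subgroup G) := fun x => by
    rw [hT, Subgroup.mem_subgroupOf]
    exact ⟨fun h => h.1, fun h => ⟨h, x.2⟩⟩
  have hcases : ∀ t ∈ (T : Subgroup X), ∃ n : ℤ, t = (⟨D.a ^ (2 : ℤ), o.ha2⟩ : X) ^ n ∨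
      t = (⟨D.a ^ (2 : ℤ), o.ha2⟩ : X) ^ n * ⟨D.a ^ i * D.b, o.hi⟩ := by
    intro t ht
    obtain ⟨j, hj | hj⟩ := D.cases (t : G) ((hmem t).mp ht)
    · obtain ⟨n, rfl⟩ := (o.hev j).mp (hj ▸ t.2)
      exact ⟨n, Or.inl (Subtype.ext (by
        rw [hj, Subgroup.coe_zpow, ← zpow_mul, two_mul]))⟩
    · obtain ⟨n, hn⟩ := (o.hrefl j).mp (hj ▸ t.2)
      exact ⟨n, Or.inr (Subtype.ext (by
        rw [hj, Subgroup.coe_mul, Subgroup.coe_zpow, ← zpow_mul, ← mul_assoc, ← zpow_add]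
        congr 2
        linarith))⟩
  have hS : Nat.card (S : Subgroup G) = 2 ^ (k' + 3) := by rw [D.card, hk']
  refine ⟨{ k := k', a := ⟨D.a ^ (2 : ℤ), o.ha2⟩, b := ⟨D.a ^ i * D.b, o.hi⟩,
            ha := (hmem _).mpr ((S : Subgroup G).zpow_mem D.ha 2),
            hb := (hmem _).mpr (D.refl_mem i),
            order_a := hordA, b_sq := Subtype.ext (D.refl_sq i),
            b_not_mem := ?_, inv := Subtype.ext hinv, card := ?_, cases := hcases }, hk'.symm, rfl, rfl⟩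
  · intro h
    obtain ⟨n, hn⟩ := mem_zpowers_iff.mp h
    refine D.refl_not_mem_rot i ⟨2 * n, ?_⟩
    have := congrArg Subtype.val hn
    simpa [zpow_mul] using this
  · obtain ⟨e⟩ := CfsgLib.TwoFusion.exists_dihedral_mulEquiv (pow_pos two_pos (k' + 1))
      hordA (b := (⟨D.a ^ i * D.b, o.hi⟩ : X)) (Subtype.ext (D.refl_sq i)) (Subtype.ext hinv)
      (fun h => by
        obtain ⟨n, hn⟩ := mem_zpowers_iff.mp h
        refine D.refl_not_mem_rot i ⟨2 * n, ?_⟩
        have := congrArg Subtype.val hn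
        simpa [zpow_mul] using this)
      (T : Subgroup X) (fun g => by
        constructor
        · intro hg
          obtain ⟨n, h | h⟩ := hcases g hg
          · exact ⟨n, Or.inl h⟩
          · refine ⟨-n, Or.inr ?_⟩
            rw [h, CfsgLib.TwoFusion.conj_inv_zpow (Subtype.ext hinv) (-n), neg_neg]
        · rintro ⟨n, rfl | rfl⟩
          · exact Subgroup.zpow_mem _ ((hmem _).mpr ((S : Subgroup G).zpow_mem D.ha 2)) n
          · exact Subgroup.mul_mem _ ((hmem _).mpr (D.refl_mem i))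
              (Subgroup.zpow_mem _ ((hmem _).mpr ((S : Subgroup G).zpow_mem D.ha 2)) n))
    rw [Nat.card_congr e.toEquiv, DihedralGroup.nat_card]
    ring

/-- The fusion of `c` to a reflection of `X` inside the centralizer of `D₀`. -/
theorem fuse {j : ℤ} (hj : Even (j - i)) :
    ∃ h ∈ X, (∀ y, o.InD y → Commute h y) ∧ h * D.z * h⁻¹ = D.a ^ j * D.b := by
  have := o.core.normal
  obtain ⟨T, hT⟩ := o.core.exists_sylow S
  obtain ⟨D', hk', ha', hb'⟩ := o.exists_inner_gens T hT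
  obtain ⟨m, hm⟩ := hj
  have hz' : (D'.z : G) = D.z := by
    show ((D'.a ^ ((2 ^ D'.k : ℕ) : ℤ) : X) : G) = D.a ^ ((2 ^ D.k : ℕ) : ℤ)
    rw [Subgroup.coe_zpow, ha', ← zpow_mul, ← hk', pow_succ]
    congr 1
    push_cast
    ring
  have hd' : ((D'.a ^ m * D'.b : X) : G) = D.a ^ j * D.b := by
    rw [Subgroup.coe_mul, Subgroup.coe_zpow, ha', hb', ← zpow_mul, ← mul_assoc, ← zpow_add]
    congr 2
    linarith
  obtain ⟨hsimple, hnc, hone⟩ := o.core.structure_facts D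
  have hconj : IsConj (D'.a ^ m * D'.b) D'.z := by
    obtain ⟨g, hg, he⟩ := hone _ (D'.a ^ m * D'.b).2 _ D'.z.2
      (by rw [Subgroup.orderOf_coe]; exact D'.orderOf_refl m)
      (by rw [Subgroup.orderOf_coe]; exact D'.orderOf_z)
    exact isConj_iff.mpr ⟨⟨g, hg⟩, Subtype.ext he⟩
  have h3 : 3 ∣ (centralizer (D'.four m : Set X)).relIndex (normalizer (D'.four m : Set X)) := by
    rcases Nat.eq_zero_or_pos D'.k with h0 | hpos
    · rw [three_of_isConj D' m h0 hconj]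
    · rw [six_of_isConj D' m hpos hconj]; norm_num
  have hU := D'.four_isKleinFour m
  rw [relIndex_centralizer_eq] at h3
  obtain ⟨w, hw⟩ := exists_sq_ne_one (fourPerm (D'.four m)) h3
  let x' : {p : D'.four m // p ≠ 1} :=
    ⟨⟨D'.z, D'.z_mem_four m⟩, fun e => D'.z_ne_one (congrArg Subtype.val e)⟩
  let y' : {p : D'.four m // p ≠ 1} :=
    ⟨⟨D'.a ^ m * D'.b, D'.refl_mem_four m⟩, fun e => D'.refl_ne_one m (congrArg Subtype.val e)⟩
  obtain ⟨n, hn⟩ : ∃ n : normalizer (D'.four m : Set X), fourPerm (D'.four m) n x' = y' := by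
    rcases three_cycle (card_points hU) _ hw x' y' with e | e | e
    · exact absurd (congrArg (fun p : {p : D'.four m // p ≠ 1} => ((p : D'.four m) : X)) e)
        (D'.z_ne_refl m).symm
    · exact ⟨w, e⟩
    · exact ⟨w * w, by rw [map_mul, Equiv.Perm.mul_apply]; exact e⟩
  obtain ⟨g, hg⟩ : ∃ g : G, g = ((n : X) : G) := ⟨_, rfl⟩
  have hgX : g ∈ X := hg ▸ (n : X).2
  obtain ⟨d, hd⟩ : ∃ d, d = D.a ^ j * D.b := ⟨_, rfl⟩
  rw [← hd]
  have hd1 : d * d = 1 := hd ▸ D.refl_sq j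
  have hdz : Commute D.z d := hd ▸ D.z_comm (D.refl_mem j)
  have hgc : g * D.z * g⁻¹ = d := by
    have h := congrArg (fun p : {p : D'.four m // p ≠ 1} => (((p : D'.four m) : X) : G)) hn
    simp only [x', y', normPerm_apply, Subgroup.coe_mul, Subgroup.coe_inv] at h
    rw [hg, ← hz', hd, ← hd']
    exact h
  have hfour : ∀ w : X, w ∈ D'.four m →
      (w : G) = 1 ∨ (w : G) = D.z ∨ (w : G) = d ∨ (w : G) = D.z * d := by
    intro w hw
    rcases D'.mem_four.mp hw with h | h | h | h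
    · exact Or.inl (by rw [h]; rfl)
    · exact Or.inr (Or.inl (by rw [h, hz']))
    · exact Or.inr (Or.inr (Or.inl (by rw [h, hd', hd])))
    · exact Or.inr (Or.inr (Or.inr (by rw [h, Subgroup.coe_mul, hz', hd', hd])))
  have hback : ∀ w ∈ D'.four m, (n : X)⁻¹ * w * (n : X) ∈ D'.four m := by
    intro w hw
    have := (Subgroup.mem_normalizer_iff.mp ((normalizer (D'.four m : Set X)).inv_mem n.2) w).mp hw
    simpa using this
  have hinvz := hfour _ (hback _ (D'.z_mem_four m))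
  have hinvd := hfour _ (hback _ (D'.refl_mem_four m))
  rw [Subgroup.coe_mul, Subgroup.coe_mul, Subgroup.coe_inv, ← hg, hz'] at hinvz
  rw [Subgroup.coe_mul, Subgroup.coe_mul, Subgroup.coe_inv, ← hg, hd', ← hd] at hinvd
  -- `n` normalizes `D₀`
  have hcy : ∀ y, o.InD y → o.InD (g * y * g⁻¹) ∧ o.InD (g⁻¹ * y * g) := by
    intro y hy
    have hyd : Commute y d := hd ▸ o.inD_commute_refl hy ⟨m, hm⟩
    have hy4 : ∀ w : G, w = 1 ∨ w = D.z ∨ w = d ∨ w = D.z * d → Commute y w := by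
      rintro w (rfl | rfl | rfl | rfl)
      exacts [Commute.one_right y, hy.1.1, hyd, hy.1.1.mul_right hyd]
    have hodd : ∀ v : G, Odd (orderOf (v * y * v⁻¹)) := fun v => by
      rw [show v * y * v⁻¹ = MulAut.conj v y from rfl, MulEquiv.orderOf_eq]; exact hy.1.2
    refine ⟨o.inD_of_commute_refl ⟨?_, hodd g⟩ ⟨m, hm⟩ ?_,
      o.inD_of_commute_refl ⟨?_, by simpa using hodd g⁻¹⟩ ⟨m, hm⟩ ?_⟩
    · have := (hy4 _ hinvz).map (MulAut.conj g).toMonoidHom
      simpa [mul_assoc] using this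
    · have := (hy4 _ hinvd).map (MulAut.conj g).toMonoidHom
      simpa [mul_assoc, hd] using this
    · have := (hgc ▸ hyd : Commute y (g * D.z * g⁻¹)).map (MulAut.conj g⁻¹).toMonoidHom
      simpa [mul_assoc] using this
    · have hgd : g * d * g⁻¹ = 1 ∨ g * d * g⁻¹ = D.z ∨ g * d * g⁻¹ = d ∨
          g * d * g⁻¹ = D.z * d := by
        have hmem := (Subgroup.mem_normalizer_iff.mp n.2 (D'.a ^ m * D'.b)).mp (D'.refl_mem_four m)
        have := hfour _ hmem
        rwa [Subgroup.coe_mul, Subgroup.coe_mul, Subgroup.coe_inv, ← hg, hd', ← hd] at this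
      have := (hy4 _ hgd).map (MulAut.conj g⁻¹).toMonoidHom
      simpa [mul_assoc, hd] using this
  obtain ⟨q, hq⟩ : ∃ q, q = D.q := ⟨_, rfl⟩
  have hqS : q ∈ (S : Subgroup G) := hq ▸ (S : Subgroup G).zpow_mem D.ha _
  have hqz : Commute q D.z := (D.z_comm hqS).symm
  have hqd : q * d * q⁻¹ = D.z * d := hq ▸ hd ▸ isConj_z_mul D j o.hk
  have hqzd : q * (D.z * d) * q⁻¹ = d := by
    rw [show q * (D.z * d) * q⁻¹ = (q * D.z * q⁻¹) * (q * d * q⁻¹) by group, hqz.eq,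
      mul_inv_cancel_right, hqd, ← mul_assoc, D.z_sq, one_mul]
  refine ⟨q * g * q⁻¹ * g⁻¹, X.mul_mem (this.conj_mem g hgX q) (X.inv_mem hgX), fun y hy => ?_, ?_⟩
  · have hy1 := (hcy y hy).2
    refine mul_inv_eq_iff_eq_mul.mp ?_
    rw [show q * g * q⁻¹ * g⁻¹ * y * (q * g * q⁻¹ * g⁻¹)⁻¹ =
      q * (g * (q⁻¹ * (g⁻¹ * y * g) * q) * g⁻¹) * q⁻¹ by group]
    rcases o.inD_sylow hqS with h | h
    · have h1 : q⁻¹ * (g⁻¹ * y * g) * q = g⁻¹ * y * g := by
        conv_lhs => rw [← h _ hy1]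
        group
      rw [h1, show g * (g⁻¹ * y * g) * g⁻¹ = y by group, h y hy]
    · have h1 : q⁻¹ * (g⁻¹ * y * g) * q = (g⁻¹ * y * g)⁻¹ := by
        rw [← inv_inj, inv_inv,
          show (q⁻¹ * (g⁻¹ * y * g) * q)⁻¹ = q⁻¹ * (g⁻¹ * y * g)⁻¹ * q by group, ← h _ hy1]
        group
      rw [h1, show g * (g⁻¹ * y * g)⁻¹ * g⁻¹ = y⁻¹ by group,
        show q * y⁻¹ * q⁻¹ = (q * y * q⁻¹)⁻¹ by group, h y hy, inv_inv]
  · have he1 : g⁻¹ * D.z * g = d ∨ g⁻¹ * D.z * g = D.z * d := by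
      rcases hinvz with h | h | h | h
      · refine absurd ?_ D.z_ne_one
        calc D.z = g * (g⁻¹ * D.z * g) * g⁻¹ := by group
          _ = 1 := by rw [h]; group
      · refine absurd ?_ (D.z_ne_refl j)
        rw [← hd, ← hgc]
        calc D.z = g * (g⁻¹ * D.z * g) * g⁻¹ := by group
          _ = _ := by rw [h]
      · exact Or.inl h
      · exact Or.inr h
    have hflip : q⁻¹ * (g⁻¹ * D.z * g) * q = D.z * (g⁻¹ * D.z * g) := by
      rcases he1 with h | h <;> rw [h]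
      · conv_lhs => rw [← hqzd]
        group
      · conv_lhs => rw [← hqd]
        rw [← mul_assoc D.z, D.z_sq, one_mul]
        group
    calc q * g * q⁻¹ * g⁻¹ * D.z * (q * g * q⁻¹ * g⁻¹)⁻¹
        = q * (g * (q⁻¹ * (g⁻¹ * D.z * g) * q) * g⁻¹) * q⁻¹ := by group
      _ = q * ((g * D.z * g⁻¹) * D.z) * q⁻¹ := by rw [hflip]; group
      _ = d := by rw [hgc, hdz.symm.eq, hqzd]

end Outer

end CfsgLib.DGroupCent
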