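import Mathlib.LinearAlgebra.Matrix.GeneralLinearGroup.Projective
import Mathlib.FieldTheory.Finite.Basic
import Mathlib.Tactic.LinearCombination

/-!
# Centralizers of involutions in `PGL₂(q)`

For odd `q ≥ 5` the centralizer of an involution of `PGL₂(q)` has more than four elements.
-/

set_option autoImplicit false

namespace CfsgLib.DGroupCent

open Matrix
open scoped MatrixGroups

variable {F : Type*} [Field F]

/-- Proportional matrices give the same element, and conversely. -/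
theorem pgl_mk_eq_iff {g h : GL (Fin 2) F} :
    ProjGenLinGroup.mk g = ProjGenLinGroup.mk h ↔
      ∃ r : Fˣ, (h : Matrix (Fin 2) (Fin 2) F) = (r : F) • (g : Matrix (Fin 2) (Fin 2) F) := by
  rw [ProjGenLinGroup.mk_eq_mk_iff]
  refine exists_congr fun r => ?_
  rw [eq_comm, ← Units.val_inj, Units.val_mul]
  refine iff_of_eq (congrArg _ ?_)
  simp [GeneralLinearGroup.scalar, Matrix.smul_eq_mul_diagonal]

/-- A lift of an involution has trace zero. -/
theorem exists_traceless {t : ProjGenLinGroup (Fin 2) F} (ht : orderOf t = 2) :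
    ∃ m : GL (Fin 2) F, ProjGenLinGroup.mk m = t ∧
      (m : Matrix (Fin 2) (Fin 2) F) 1 1 = -(m : Matrix (Fin 2) (Fin 2) F) 0 0 := by
  obtain ⟨m, rfl⟩ := ProjGenLinGroup.mk_surjective t
  refine ⟨m, rfl, ?_⟩
  by_contra htr
  have htr' : (m : Matrix (Fin 2) (Fin 2) F) 0 0 + (m : Matrix (Fin 2) (Fin 2) F) 1 1 ≠ 0 :=
    fun e => htr (eq_neg_of_add_eq_zero_right e)
  have hsq : ProjGenLinGroup.mk (1 : GL (Fin 2) F) = ProjGenLinGroup.mk (m * m) := by
    rw [map_mul, map_one, ← pow_two]; exact (ht ▸ pow_orderOf_eq_one _ :).symm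
  obtain ⟨r, hr⟩ := pgl_mk_eq_iff.mp hsq
  rw [Units.val_mul, Units.val_one] at hr
  have e01 := congrFun (congrFun hr 0) 1
  have e10 := congrFun (congrFun hr 1) 0
  have e00 := congrFun (congrFun hr 0) 0
  have e11 := congrFun (congrFun hr 1) 1
  simp [Matrix.mul_apply, Fin.sum_univ_two] at e01 e10 e00 e11
  have h01 : (m : Matrix (Fin 2) (Fin 2) F) 0 1 = 0 :=
    (mul_eq_zero.mp (show ((m : Matrix (Fin 2) (Fin 2) F) 0 0 + (m : Matrix (Fin 2) (Fin 2) F) 1 1) *
      (m : Matrix (Fin 2) (Fin 2) F) 0 1 = 0 by linear_combination e01)).resolve_left htr'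
  have h10 : (m : Matrix (Fin 2) (Fin 2) F) 1 0 = 0 :=
    (mul_eq_zero.mp (show ((m : Matrix (Fin 2) (Fin 2) F) 0 0 + (m : Matrix (Fin 2) (Fin 2) F) 1 1) *
      (m : Matrix (Fin 2) (Fin 2) F) 1 0 = 0 by linear_combination e10)).resolve_left htr'
  have hd : (m : Matrix (Fin 2) (Fin 2) F) 0 0 = (m : Matrix (Fin 2) (Fin 2) F) 1 1 :=
    sub_eq_zero.mp ((mul_eq_zero.mp (show ((m : Matrix (Fin 2) (Fin 2) F) 0 0 +
      (m : Matrix (Fin 2) (Fin 2) F) 1 1) * ((m : Matrix (Fin 2) (Fin 2) F) 0 0 -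
      (m : Matrix (Fin 2) (Fin 2) F) 1 1) = 0 by linear_combination e00 - e11)).resolve_left htr')
  refine (show ProjGenLinGroup.mk m ≠ 1 from fun e => by simp [e] at ht) ?_
  have hd0 : (m : Matrix (Fin 2) (Fin 2) F) 0 0 ≠ 0 := fun e => htr' (by rw [← hd, e, add_zero])
  rw [← map_one (ProjGenLinGroup.mk (n := Fin 2) (R := F)), pgl_mk_eq_iff]
  refine ⟨(Units.mk0 _ hd0)⁻¹, ?_⟩
  rw [Units.val_inv_eq_inv_val, Units.val_mk0]
  ext a b
  fin_cases a <;> fin_cases b
  · simp [inv_mul_cancel₀ hd0]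
  · simp [h01]
  · simp [h10]
  · simp [← hd, inv_mul_cancel₀ hd0]

/-- Centralizers of involutions of `PGL₂(q)`, `q ≥ 5` odd, have more than four elements. -/
theorem four_lt_card_centralizer [Fintype F] (hodd : Odd (Fintype.card F))
    (h3 : 3 < Fintype.card F) {t : ProjGenLinGroup (Fin 2) F} (ht : orderOf t = 2) :
    4 < Nat.card (Subgroup.centralizer ({t} : Set (ProjGenLinGroup (Fin 2) F))) := by
  classical
  have h2 : (2 : F) ≠ 0 := Ring.two_ne_zero fun e =>
    Nat.not_even_iff_odd.mpr hodd (Nat.even_iff.mpr (FiniteField.even_card_of_char_two e))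
  obtain ⟨m, rfl, htr⟩ := exists_traceless ht
  obtain ⟨M, hM⟩ : ∃ M, M = (m : Matrix (Fin 2) (Fin 2) F) := ⟨_, rfl⟩
  rw [← hM] at htr
  have hδ : M.det ≠ 0 := hM ▸ GeneralLinearGroup.det_ne_zero m
  have hns : ∀ c : F, M ≠ c • (1 : Matrix (Fin 2) (Fin 2) F) := by
    intro c e
    rw [e] at htr
    simp at htr
    have : c = 0 := by
      have : (2 : F) * c = 0 := by linear_combination htr
      exact (mul_eq_zero.mp this).resolve_left h2
    exact hδ (by rw [e, this, zero_smul, Matrix.det_zero])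
  have hdet : ∀ y : F, ((1 : Matrix (Fin 2) (Fin 2) F) + y • M).det = 1 + y * y * M.det := by
    intro y
    simp [Matrix.det_fin_two, htr]
    ring
  -- an anticommuting invertible matrix
  obtain ⟨N, hN0, hNM⟩ : ∃ N : Matrix (Fin 2) (Fin 2) F, N.det ≠ 0 ∧ N * M = -(M * N) := by
    by_cases hc : M 1 0 = 0
    · by_cases hb : M 0 1 = 0
      · refine ⟨!![0, 1; 1, 0], by simp [Matrix.det_fin_two_of], ?_⟩
        ext a b
        fin_cases a <;> fin_cases b <;> simp [Matrix.mul_apply, Fin.sum_univ_two, hb, hc, htr]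
      · refine ⟨!![1, 0; -2 * M 0 0 / M 0 1, -1], by simp [Matrix.det_fin_two_of], ?_⟩
        ext a b
        fin_cases a <;> fin_cases b <;> simp [Matrix.mul_apply, Fin.sum_univ_two, hc, htr] <;>
          field_simp <;> ring
    · refine ⟨!![1, -2 * M 0 0 / M 1 0; 0, -1], by simp [Matrix.det_fin_two_of], ?_⟩
      ext a b
      fin_cases a <;> fin_cases b <;> simp [Matrix.mul_apply, Fin.sum_univ_two, htr] <;>
        field_simp <;> ring
  obtain ⟨n, hn⟩ : ∃ n : GL (Fin 2) F, (n : Matrix (Fin 2) (Fin 2) F) = N :=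
    ⟨GeneralLinearGroup.mkOfDetNeZero N hN0, rfl⟩
  have hnc : Commute (ProjGenLinGroup.mk n) (ProjGenLinGroup.mk m) := by
    rw [commute_iff_eq, ← map_mul, ← map_mul, pgl_mk_eq_iff]
    exact ⟨-1, by simp [hn, ← hM, hNM]⟩
  -- the elements `1 + y m`
  obtain ⟨p, hp⟩ : ∃ p : ∀ y : F, 1 + y * y * M.det ≠ 0 → GL (Fin 2) F,
      ∀ y h, (p y h : Matrix (Fin 2) (Fin 2) F) = 1 + y • M :=
    ⟨fun y h => GeneralLinearGroup.mkOfDetNeZero (1 + y • M) (by rw [hdet]; exact h),
      fun y h => rfl⟩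
  have hpc : ∀ y h, Commute (ProjGenLinGroup.mk (p y h)) (ProjGenLinGroup.mk m) := by
    intro y h
    refine Commute.map (Units.ext ?_) ProjGenLinGroup.mk
    rw [Units.val_mul, Units.val_mul, hp, ← hM, add_mul, mul_add, one_mul, mul_one, smul_mul_assoc,
      mul_smul_comm]
  have hbad : ∀ y y' : F, 1 + y * y * M.det = 0 → 1 + y' * y' * M.det = 0 → y = y' ∨ y = -y' := by
    intro y y' h h'
    have : (y - y') * (y + y') * M.det = 0 := by linear_combination h - h'
    rcases mul_eq_zero.mp ((mul_eq_zero.mp this).resolve_right hδ) with e | e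
    exacts [Or.inl (sub_eq_zero.mp e), Or.inr (eq_neg_of_add_eq_zero_left e)]
  obtain ⟨y₀, hy₀⟩ : ∃ y₀ : F, ∀ y, 1 + y * y * M.det = 0 → y = y₀ ∨ y = -y₀ := by
    by_cases hex : ∃ y : F, 1 + y * y * M.det = 0
    · obtain ⟨y₀, h⟩ := hex
      exact ⟨y₀, fun y hy => hbad y y₀ hy h⟩
    · exact ⟨0, fun y hy => absurd ⟨y, hy⟩ hex⟩
  let f : F → Subgroup.centralizer
      ({ProjGenLinGroup.mk m} : Set (ProjGenLinGroup (Fin 2) F)) := fun y =>
    if h : 1 + y * y * M.det ≠ 0 then
      ⟨ProjGenLinGroup.mk (p y h), Subgroup.mem_centralizer_singleton_iff.mpr (hpc y h).eq⟩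
    else if y = y₀ then
      ⟨ProjGenLinGroup.mk m, Subgroup.mem_centralizer_singleton_iff.mpr rfl⟩
    else ⟨ProjGenLinGroup.mk n, Subgroup.mem_centralizer_singleton_iff.mpr hnc.eq⟩
  have hpp : ∀ y h y' h', ProjGenLinGroup.mk (p y h) = ProjGenLinGroup.mk (p y' h') → y = y' := by
    intro y h y' h' e
    obtain ⟨r, hr⟩ := pgl_mk_eq_iff.mp e
    rw [hp, hp, smul_add, smul_smul] at hr
    by_contra hne
    by_cases hry : (r : F) * y = y'
    · rw [hry, add_left_inj] at hr
      have := congrFun (congrFun hr 0) 0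
      simp at this
      rw [← this, one_mul] at hry
      exact hne hry
    · refine hns (((r : F) * y - y')⁻¹ * (1 - (r : F))) ?_
      have h1 : ((r : F) * y - y') • M = (1 - (r : F)) • (1 : Matrix (Fin 2) (Fin 2) F) := by
        rw [sub_smul, sub_smul, one_smul, sub_eq_sub_iff_add_eq_add, add_comm, ← hr]
      rw [mul_smul, ← h1, smul_smul, inv_mul_cancel₀ (sub_ne_zero.mpr hry), one_smul]
  have hpm : ∀ y h, ProjGenLinGroup.mk (p y h) ≠ ProjGenLinGroup.mk m := by
    intro y h e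
    obtain ⟨r, hr⟩ := pgl_mk_eq_iff.mp e
    rw [hp, ← hM, smul_add, smul_smul] at hr
    by_cases hry : 1 - (r : F) * y = 0
    · have h00 := congrFun (congrFun hr 0) 0
      rw [sub_eq_zero] at hry
      simp [← hry] at h00
    · refine hns ((1 - (r : F) * y)⁻¹ * r) ?_
      have h1 : (1 - (r : F) * y) • M = (r : F) • (1 : Matrix (Fin 2) (Fin 2) F) := by
        rw [sub_smul, one_smul, sub_eq_iff_eq_add]
        exact hr
      rw [mul_smul, ← h1, smul_smul, inv_mul_cancel₀ hry, one_smul]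
  have hanti : ∀ K : GL (Fin 2) F, Commute (K : Matrix (Fin 2) (Fin 2) F) M →
      ProjGenLinGroup.mk K ≠ ProjGenLinGroup.mk n := by
    intro K hK e
    obtain ⟨r, hr⟩ := pgl_mk_eq_iff.mp e
    rw [hn] at hr
    have h1 : N * M = M * N := hr ▸ (hK.smul_left (r : F)).eq
    rw [hNM, neg_eq_iff_add_eq_zero, ← two_smul F, smul_eq_zero] at h1
    have := congrArg Matrix.det (h1.resolve_left h2)
    rw [Matrix.det_mul, Matrix.det_zero] at this
    exact (mul_ne_zero hδ hN0) this
  have hcomm : ∀ y h, Commute (p y h : Matrix (Fin 2) (Fin 2) F) M := fun y h => by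
    rw [hp]; exact (Commute.one_left M).add_left ((Commute.refl M).smul_left y)
  have hinj : Function.Injective f := by
    intro y y' e
    have e' := congrArg Subtype.val e
    simp only [f] at e'
    split_ifs at e' with h h' hy hy' hy hy' hy' hy' <;> simp only at e'
    all_goals first
      | exact hpp _ _ _ _ e'
      | exact (hpm _ _ e').elim
      | exact (hpm _ _ e'.symm).elim
      | exact (hanti _ (hcomm _ _) e').elim
      | exact (hanti _ (hcomm _ _) e'.symm).elim
      | exact (hanti m (hM ▸ Commute.refl _) e').elim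
      | exact (hanti m (hM ▸ Commute.refl _) e'.symm).elim
      | (subst_vars; rfl)
      | exact ((hy₀ y (not_not.mp ‹_›)).resolve_left ‹_›).trans
          ((hy₀ y' (not_not.mp ‹_›)).resolve_left ‹_›).symm
  calc 4 < Fintype.card F := by
        obtain ⟨k, hk⟩ := hodd
        omega
    _ ≤ _ := by
        rw [← Nat.card_eq_fintype_card]
        have : Finite (ProjGenLinGroup (Fin 2) F) := inferInstanceAs (Finite (GL (Fin 2) F ⧸ _))
        exact Nat.card_le_card_of_injective f hinj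

end CfsgLib.DGroupCent
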