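import Cfsg.Agent.Lib.DGroupCent.OneMain
import Cfsg.Agent.Lib.DGroupCent.PGLInvol
import Cfsg.Agent.Lib.TwoFusion.QDTheorems
import Cfsg.Agent.Lib.Invol.GlaubermanZStar
import Cfsg.Agent.Lib.Invol.BaerSuzuki
import Cfsg.Agent.Lib.Linear.Simple
import Mathlib.GroupTheory.SchurZassenhaus

/-!
# Rank one: the Sylow 2-subgroups are not semidihedral

With semidihedral Sylow subgroups the central involution `c` of one of them would be isolated in a
subgroup of index two, hence central; the quotient by `c` then has a four-group as centralizer of an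
involution and dihedral Sylow subgroups, so is `PSL₂(q)` or `PGL₂(q)`, which is impossible.
-/

set_option autoImplicit false
set_option linter.unusedSectionVars false

namespace CfsgLib.DGroupCent

open Subgroup CfsgLib.TwoFusion CfsgLib.TwoFusion.QDFusion

universe u

variable {G : Type u} [Group G] [Finite G]

/-- An involution which is the only one in `S ∩ M` is isolated, for `M` normal containing it. -/
theorem eq_of_commute_conj {S : Sylow 2 G} {M : Subgroup G} (hM : M.Normal) {c : G}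
    (hc : orderOf c = 2) (honly : ∀ t ∈ (S : Subgroup G), t ∈ M → orderOf t = 2 → t = c)
    (hcM : c ∈ M) (g : G) (hcomm : Commute c (g * c * g⁻¹)) : g * c * g⁻¹ = c := by
  obtain ⟨d, hd⟩ : ∃ d, d = g * c * g⁻¹ := ⟨_, rfl⟩
  rw [← hd] at hcomm ⊢
  by_contra hne
  have hdo : orderOf d = 2 := by rw [hd, Invol.orderOf_conj, hc]
  have hcc := Invol.mul_self_eq_one hc
  have hdd := Invol.mul_self_eq_one hdo
  have hcd : orderOf (c * d) = 2 ^ 1 := by
    rw [pow_one]
    refine Invol.orderOf_eq_two (fun e => hne ?_) (by rw [hcomm.symm.mul_mul_mul_comm, hcc, hdd, one_mul])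
    rw [← inv_eq_of_mul_eq_one_right e, inv_eq_of_mul_eq_one_right hcc]
  obtain ⟨h, -, hconj⟩ := FusionTools.exists_conj_le ⊤ (S : Subgroup G) _ S.isPGroup' le_top
    (by rw [Subgroup.relIndex_top_right]; exact FusionTools.sylow_index_odd S)
    (Invol.isPGroup_two_closure_pair hc hdo hcd) le_top
  have h1 := honly _ (hconj c (Subgroup.subset_closure (Set.mem_insert _ _)))
    (hM.conj_mem _ hcM h) (by rw [Invol.orderOf_conj, hc])
  have h2 := honly _ (hconj d (Subgroup.subset_closure (Set.mem_insert_of_mem _ rfl)))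
    (hM.conj_mem _ (hd ▸ hM.conj_mem _ hcM g) h) (by rw [Invol.orderOf_conj, hdo])
  exact hne (mul_left_cancel (mul_right_cancel (h2.trans h1.symm)))

/-- A central subgroup of order two does not create a core in the quotient. -/
theorem oddCore_quotient_central (hO : Cfsg.oddCore G = ⊥) {c : G} (hc : orderOf c = 2)
    (hcen : ∀ g : G, Commute c g) [(Subgroup.zpowers c).Normal] :
    Cfsg.oddCore (G ⧸ Subgroup.zpowers c) = ⊥ := by
  obtain ⟨π, hπ⟩ : ∃ π, π = QuotientGroup.mk' (Subgroup.zpowers c) := ⟨_, rfl⟩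
  have hsur : Function.Surjective π := hπ ▸ QuotientGroup.mk'_surjective _
  have hker : π.ker = Subgroup.zpowers c := hπ ▸ QuotientGroup.ker_mk' _
  obtain ⟨N, hN⟩ : ∃ N, N = Cfsg.oddCore (G ⧸ Subgroup.zpowers c) := ⟨_, rfl⟩
  have hNn : N.Normal := hN ▸ CfsgLib.Solvable.pPrimeCore_normal 2 _
  have hNo : Odd (Nat.card N) :=
    hN ▸ Nat.coprime_two_right.1 (CfsgLib.Solvable.pPrimeCore_card_coprime 2 _)
  rw [← hN]
  obtain ⟨P, hP⟩ : ∃ P, P = N.comap π := ⟨_, rfl⟩
  have hPn : P.Normal := hP ▸ hNn.comap π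
  have hcP : Subgroup.zpowers c ≤ P := hker.ge.trans (hP ▸ Subgroup.ker_le_comap π N)
  have hCcard : Nat.card ((Subgroup.zpowers c).subgroupOf P) = 2 := by
    rw [Nat.card_congr (Subgroup.subgroupOfEquivOfLe hcP).toEquiv, Nat.card_zpowers, hc]
  have hidx : ((Subgroup.zpowers c).subgroupOf P).index = Nat.card N := by
    refine (congrArg (fun Q => Q.relIndex P) hker.symm).trans ?_
    rw [← MonoidHom.comap_bot, hP, Subgroup.relIndex_comap,
      Subgroup.map_comap_eq_self_of_surjective hsur, Subgroup.relIndex_bot_left]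
  obtain ⟨K, hK⟩ := Subgroup.exists_right_complement'_of_coprime
    (N := (Subgroup.zpowers c).subgroupOf P) (by
      rw [hCcard, hidx]; exact Nat.coprime_two_left.mpr hNo)
  have hKcard : Nat.card K = Nat.card N := by rw [← hK.symm.index_eq_card, hidx]
  -- `K` consists of the elements of odd order of `P`
  have hKodd : ∀ y : P, Odd (orderOf y) → y ∈ K := by
    intro y hy
    obtain ⟨⟨w, k⟩, hwk⟩ := hK.2 y
    have hwc : ∀ p : P, Commute (w : P) p := fun p => by
      obtain ⟨e, he⟩ := Subgroup.mem_zpowers_iff.mp (Subgroup.mem_subgroupOf.mp w.2)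
      exact Subtype.ext (show ((w : P) : G) * p = p * (w : P) from
        he ▸ ((hcen p).zpow_left e).eq)
    have hw2 : (w : P) ^ 2 = 1 := by
      have := pow_card_eq_one' (x := (⟨(w : P), w.2⟩ : (Subgroup.zpowers c).subgroupOf P))
      rw [hCcard] at this
      exact congrArg Subtype.val this
    have hkn : (k : P) ^ Nat.card N = 1 := by
      have := pow_card_eq_one' (x := (⟨(k : P), k.2⟩ : K))
      rw [hKcard] at this
      exact congrArg Subtype.val this
    obtain ⟨m, hm⟩ := hNo
    have hw : (w : P) = y ^ Nat.card N := by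
      have hwN : (w : P) ^ Nat.card N = w := by rw [hm, pow_succ, pow_mul, hw2, one_pow, one_mul]
      have hwk' : (w : P) * k = y := hwk
      rw [← hwk', (hwc k).mul_pow, hkn, mul_one, hwN]
    have hw1 : (w : P) = 1 := by
      have h1 : orderOf (w : P) ∣ 2 := orderOf_dvd_of_pow_eq_one hw2
      have h2 : Odd (orderOf (w : P)) := hy.of_dvd_nat (hw ▸ orderOf_pow_dvd _)
      exact orderOf_eq_one_iff.mp ((Nat.dvd_prime Nat.prime_two).mp h1 |>.resolve_right
        fun e => absurd (e ▸ h2) (by decide))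
    have hwk' : (w : P) * k = y := hwk
    rw [← hwk', hw1, one_mul]
    exact k.2
  have hn : (K.map P.subtype).Normal := by
    refine ⟨fun w hw g => ?_⟩
    obtain ⟨k, hk, rfl⟩ := hw
    have hmem : g * (k : G) * g⁻¹ ∈ P := hPn.conj_mem _ k.2 g
    refine ⟨⟨_, hmem⟩, hKodd _ ?_, rfl⟩
    rw [Subgroup.orderOf_mk, Invol.orderOf_conj, Subgroup.orderOf_coe]
    exact (hKcard ▸ hNo).of_dvd_nat (Subgroup.orderOf_dvd_natCard K hk)
  have hbot : K.map P.subtype = ⊥ := by
    refine le_bot_iff.mp (hO ▸ CfsgLib.Solvable.le_pPrimeCore hn (Nat.coprime_two_right.mpr ?_))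
    rw [Subgroup.card_map_of_injective P.subtype_injective, hKcard]
    exact hNo
  rw [← Subgroup.card_eq_one, ← hKcard, ← Subgroup.card_map_of_injective P.subtype_injective, hbot,
    Subgroup.card_bot]

namespace One

variable {H A : Subgroup G} {z : G} (s : One H A z) {S : Sylow 2 G}

include s

theorem not_conj_le (D : QDGens (S : Subgroup G)) (g : G)
    (hg : ∀ t ∈ (S : Subgroup G), g * t * g⁻¹ ∈ H) : False := by
  obtain ⟨f, hf⟩ : ∃ f, f = (MulAut.conj g).toMonoidHom.comp (S : Subgroup G).subtype := ⟨_, rfl⟩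
  have hinj : Function.Injective f := by
    rw [hf]; exact (MulAut.conj g).injective.comp (S : Subgroup G).subtype_injective
  have hfH : ∀ t, f t ∈ H := fun t => by rw [hf]; exact hg t t.2
  have hfx : f D.x ∈ A := by
    by_contra h
    have := s.hinvol _ (hfH D.x) h
    rw [← map_mul, ← pow_two, map_eq_one_iff f hinj, ← orderOf_dvd_iff_pow_eq_one, D.hord] at this
    have h8 : 2 ^ 3 ≤ 2 ^ (D.p + 3) := Nat.pow_le_pow_right two_pos (by omega)
    have := Nat.le_of_dvd two_pos this
    omega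
  have hfy : f D.y ∉ A := by
    intro h
    have hc : f D.y * f D.x * (f D.y)⁻¹ = f D.x := by
      rw [(s.comm_A h hfx).eq, mul_inv_cancel_right]
    rw [← map_inv, ← map_mul, ← map_mul, hinj.eq_iff, D.hrel, ← zpow_one D.x, ← zpow_mul, one_mul,
      zpow_one] at hc
    nth_rw 2 [← zpow_one D.x] at hc
    rw [D.zpow_eq_iff] at hc
    obtain ⟨e, he⟩ := hc
    exact D.not_dvd_two_sub 0 ⟨-2 * e + 1, by linear_combination -he⟩
  have hxy : f (D.x ^ (1 : ℤ) * D.y) ∉ A := by
    rw [map_mul, zpow_one]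
    exact fun h => hfy ((A.mul_mem_cancel_left hfx).mp h)
  have := s.hinvol _ (hfH _) hxy
  rw [← map_mul, ← pow_two, map_eq_one_iff f hinj, D.sq_zy_eq_one_iff] at this
  omega

/-- The semidihedral case does not occur. -/
theorem not_quasiDihedral (hrec : FourFreeRec.{u}) (hO : Cfsg.oddCore G = ⊥)
    (hzS : z ∈ (S : Subgroup G)) {r : G} (hrS : r ∈ (S : Subgroup G)) (hr : r ∈ H) (hrA : r ∉ A) :
    ¬ Cfsg.IsQuasiDihedral (S : Subgroup G) := by
  intro hQD
  obtain ⟨D⟩ := QDFusion.exists_gens hQD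
  obtain ⟨c, hcdef⟩ : ∃ c, c = cG D := ⟨_, rfl⟩
  have hco : orderOf c = 2 := hcdef ▸ orderOf_cG D
  have hcS : c ∈ (S : Subgroup G) := hcdef ▸ SetLike.coe_mem _
  have hfour : ∀ x ∈ (S : Subgroup G), Commute x z → x = 1 ∨ x = z ∨ x = r ∨ x = r * z :=
    (s.sylow_cases S hzS hrS hr hrA).resolve_left fun h =>
      s.not_conj_le D 1 fun t ht => by simpa using h ht
  have hzc : z ≠ c := fun e => s.not_conj_le D 1 fun t ht => by
    rw [one_mul, inv_one, mul_one, s.mem_H_iff, e, hcdef]
    exact (cG_comm D ht).symm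
  have hzv : IsConj (vG D 0) z :=
    (involution_cases D hzS s.hz).resolve_left (hcdef ▸ hzc)
  have hnot : ¬ IsConj (vG D 0) (cG D) := fun h => by
    obtain ⟨g, hg⟩ := isConj_iff.mp (h.symm.trans hzv)
    refine s.not_conj_le D g fun t ht => s.mem_H_iff.mpr ?_
    rw [← hg]
    have hct : Commute t (cG D) := (show Commute (cG D) t from cG_comm D ht).symm
    exact hct.map (MulAut.conj g).toMonoidHom
  obtain ⟨M, hMn, hM2, hvM⟩ := exists_avoid_y S D hnot
  have hzM : z ∉ M := fun h => by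
    obtain ⟨g, hg⟩ := isConj_iff.mp hzv.symm
    exact hvM (hg ▸ hMn.conj_mem _ h g)
  have hcM : c ∈ M := hcdef ▸ cG_mem_index_two S D hM2
  have honly : ∀ t ∈ (S : Subgroup G), t ∈ M → orderOf t = 2 → t = c := fun t htS htM ht => by
    rcases involution_cases D htS ht with h | h
    · exact hcdef ▸ h
    · obtain ⟨g, hg⟩ := isConj_iff.mp h.symm
      exact absurd (hg ▸ hMn.conj_mem _ htM g) hvM
  -- `c` is central
  have hcen : ∀ g : G, Commute c g := by
    have hiso : Cfsg.IsIsolatedInvolution (⟨c, hcM⟩ : M) := by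
      refine ⟨(Subgroup.orderOf_mk c hcM).trans hco, fun g hg => Subtype.ext ?_⟩
      exact eq_of_commute_conj hMn hco honly hcM (g : G) (congrArg Subtype.val hg.eq)
    have hMO : Cfsg.pPrimeCore 2 M = ⊥ := by
      have hch : (Cfsg.pPrimeCore 2 M).Characteristic := CfsgLib.Solvable.pPrimeCore_characteristic 2 M
      have hle : (Cfsg.pPrimeCore 2 M).map M.subtype ≤ Cfsg.oddCore G :=
        CfsgLib.Solvable.le_pPrimeCore inferInstance (by
          rw [Subgroup.card_map_of_injective M.subtype_injective]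
          exact CfsgLib.Solvable.pPrimeCore_card_coprime 2 M)
      rw [hO, le_bot_iff] at hle
      exact (Subgroup.map_eq_bot_iff_of_injective _ M.subtype_injective).mp hle
    intro g
    have hgc : g * c * g⁻¹ ∈ M := hMn.conj_mem _ hcM g
    have h := CfsgLib.Invol.zStar hiso ⟨_, hgc⟩
    rw [hMO, Subgroup.mem_bot] at h
    have h' : c * (g * c * g⁻¹) * c⁻¹ * (g * c * g⁻¹)⁻¹ = 1 := congrArg Subtype.val h
    rw [mul_inv_eq_one, mul_inv_eq_iff_eq_mul] at h'
    have := eq_of_commute_conj hMn hco honly hcM g h'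
    exact (mul_inv_eq_iff_eq_mul.mp this).symm
  have hcc : c * c = 1 := Invol.mul_self_eq_one hco
  have hcH : c ∈ H := s.mem_H_iff.mpr (hcen z)
  have hcA : c ∉ A := fun h => by
    rcases s.huniq c h hcc with e | e
    · rw [e, orderOf_one] at hco; omega
    · exact hzc e.symm
  have hH : ∀ x, Commute x z → x = 1 ∨ x = z ∨ x = c ∨ x = c * z := fun x hx =>
    s.commute_refl_cases hcH hcA (s.mem_H_iff.mpr hx) (hcen x).symm
  -- a `2`-element moving `z` to `c z`
  obtain ⟨w, hwS, hw⟩ : ∃ w ∈ (S : Subgroup G), w * z * w⁻¹ = c * z := by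
    obtain ⟨i, hi⟩ := D.normalForm ⟨z, hzS⟩
    have hii : ∃ i : ℤ, (⟨z, hzS⟩ : (S : Subgroup G)) = D.x ^ i * D.y := by
      rcases hi with h | h
      · exfalso
        have h2 : (D.x ^ i) ^ 2 = 1 := by rw [← h, pow_two]; exact Subtype.ext s.z_sq
        rcases D.zpow_sq_eq_one_iff.mp h2 with e | e <;> rw [e] at h
        · exact s.z_ne (congrArg Subtype.val h)
        · exact hzc ((congrArg Subtype.val h).trans hcdef.symm)
      · exact ⟨i, h⟩
    obtain ⟨i, hzi⟩ := hii
    obtain ⟨w, hw⟩ := D.exists_conj_zy (i := 4 * D.P + i) (k := i) ⟨2 * D.P, by ring⟩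
    refine ⟨w, w.2, ?_⟩
    have e : D.x ^ (4 * D.P + i) * D.y = D.x ^ (4 * D.P) * (D.x ^ i * D.y) := (D.mul_zy _ _).symm
    rw [e, ← hzi] at hw
    rw [hcdef]
    exact congrArg Subtype.val hw
  have hne : c * z ≠ z := fun e => by
    rw [mul_eq_right] at e; rw [e, orderOf_one] at hco; omega
  have hw2 : w * w = 1 ∨ w * w = c := by
    have hwz : Commute (w * w) z := mul_inv_eq_iff_eq_mul.mp (by
      calc w * w * z * (w * w)⁻¹ = w * (w * z * w⁻¹) * w⁻¹ := by group
        _ = (w * c * w⁻¹) * (w * z * w⁻¹) :=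
          (congrArg (fun v => w * v * w⁻¹) hw).trans (by group)
        _ = z := by rw [hw, ← (hcen w).eq, mul_inv_cancel_right, ← mul_assoc, hcc, one_mul])
    have hww : Commute (w * w) w := (Commute.refl w).mul_left (Commute.refl w)
    rcases hH _ hwz with h | h | h | h
    · exact Or.inl h
    · exact absurd (hw.symm.trans (mul_inv_eq_iff_eq_mul.mpr (h ▸ hww).symm.eq)) hne
    · exact Or.inr h
    · have h1 : Commute w z := by
        have := (hcen w).symm.mul_right (h ▸ hww).symm
        rwa [← mul_assoc, hcc, one_mul] at this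
      exact absurd (hw.symm.trans (mul_inv_eq_iff_eq_mul.mpr h1.eq)) hne
  -- the quotient by `c`
  have hCn : (Subgroup.zpowers c).Normal := ⟨fun x hx g => by
    obtain ⟨e, rfl⟩ := Subgroup.mem_zpowers_iff.mp hx
    rw [← ((hcen g).zpow_left e).eq, mul_inv_cancel_right]
    exact zpow_mem (Subgroup.mem_zpowers c) e⟩
  obtain ⟨π, hπ⟩ : ∃ π, π = QuotientGroup.mk' (Subgroup.zpowers c) := ⟨_, rfl⟩
  have hsur : Function.Surjective π := hπ ▸ QuotientGroup.mk'_surjective _
  have hker : ∀ x, π x = 1 ↔ x = 1 ∨ x = c := by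
    intro x
    rw [hπ, QuotientGroup.mk'_apply, QuotientGroup.eq_one_iff]
    refine ⟨fun h => ?_, ?_⟩
    · obtain ⟨n, rfl⟩ := Subgroup.mem_zpowers_iff.mp h
      obtain ⟨m, rfl | rfl⟩ := Int.even_or_odd' n
      · exact Or.inl (by rw [zpow_mul, zpow_two, hcc, one_zpow])
      · exact Or.inr (by rw [zpow_add_one, zpow_mul, zpow_two, hcc, one_zpow, one_mul])
    · rintro (rfl | rfl)
      exacts [one_mem _, Subgroup.mem_zpowers _]
  have hπc : π c = 1 := (hker c).mpr (Or.inr rfl)
  have hπz : π z ≠ 1 := fun e => ((hker z).mp e).elim s.z_ne hzc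
  have hzz : π z * π z = 1 := by rw [← map_mul, s.z_sq, map_one]
  have hww : π w * π w = 1 := by
    rw [← map_mul]; rcases hw2 with h | h <;> rw [h]
    exacts [map_one π, hπc]
  have hzw : Commute (π z) (π w) := by
    have := congrArg π hw
    rw [map_mul, map_mul, map_inv, map_mul, hπc, one_mul, mul_inv_eq_iff_eq_mul] at this
    exact this.symm
  have hC' : ∀ q, Commute q (π z) → q = 1 ∨ q = π z ∨ q = π w ∨ q = π w * π z := by
    intro q hq
    obtain ⟨g, rfl⟩ := hsur q
    have h1 : π (g * z * g⁻¹ * z⁻¹) = 1 := by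
      rw [map_mul, map_mul, map_mul, map_inv, map_inv, hq.eq]; group
    have key : ∀ x, Commute x z → π x = 1 ∨ π x = π z := fun x hx => by
      rcases hH x hx with h | h | h | h <;> rw [h]
      exacts [Or.inl (map_one π), Or.inr rfl, Or.inl hπc,
        Or.inr (by rw [map_mul, hπc, one_mul])]
    rcases (hker _).mp h1 with h | h <;> rw [mul_inv_eq_iff_eq_mul] at h
    · rw [one_mul] at h
      rcases key g (mul_inv_eq_iff_eq_mul.mp h) with e | e
      exacts [Or.inl e, Or.inr (Or.inl e)]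
    · have hwg : Commute (w⁻¹ * g) z := mul_inv_eq_iff_eq_mul.mp (by
        calc w⁻¹ * g * z * (w⁻¹ * g)⁻¹ = w⁻¹ * (g * z * g⁻¹) * w := by group
          _ = z := by rw [h, ← hw]; group)
      rw [show g = w * (w⁻¹ * g) by group, map_mul]
      rcases key _ hwg with e | e <;> rw [e]
      exacts [Or.inr (Or.inr (Or.inl (mul_one _))), Or.inr (Or.inr (Or.inr rfl))]
  obtain ⟨H', hH'⟩ : ∃ H', H' = Subgroup.centralizer ({π z} : Set (G ⧸ Subgroup.zpowers c)) :=
    ⟨_, rfl⟩
  have hH'mem : ∀ q, q ∈ H' ↔ Commute q (π z) := fun q => by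
    rw [hH', Subgroup.mem_centralizer_singleton_iff]; rfl
  have hzmem : ∀ q, q ∈ Subgroup.zpowers (π z) ↔ q = 1 ∨ q = π z := by
    intro q
    refine ⟨fun h => ?_, ?_⟩
    · obtain ⟨n, rfl⟩ := Subgroup.mem_zpowers_iff.mp h
      obtain ⟨m, rfl | rfl⟩ := Int.even_or_odd' n
      · exact Or.inl (by rw [zpow_mul, zpow_two, hzz, one_zpow])
      · exact Or.inr (by rw [zpow_add_one, zpow_mul, zpow_two, hzz, one_zpow, one_mul])
    · rintro (rfl | rfl)
      exacts [one_mem _, Subgroup.mem_zpowers _]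
  have hwnot : π w ∉ Subgroup.zpowers (π z) := fun h => by
    have hsame : ∀ v : G, (π v = 1 → v * z * v⁻¹ = z) := fun v hv => by
      rcases (hker v).mp hv with rfl | rfl
      · group
      · rw [(hcen z).eq, mul_inv_cancel_right]
    rcases (hzmem _).mp h with e | e
    · exact hne (hw.symm.trans (hsame w e))
    · have hv : π (w * z) = 1 := by rw [map_mul, e, hzz]
      have h3 := hsame _ hv
      rw [show w * z * z * (w * z)⁻¹ = w * z * w⁻¹ by group] at h3
      exact hne (hw.symm.trans h3)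
  have hout : ∀ q ∈ H', q ∉ Subgroup.zpowers (π z) → q = π w ∨ q = π w * π z := fun q hq hqA => by
    rcases hC' q ((hH'mem q).mp hq) with h | h | h | h
    exacts [absurd ((hzmem q).mpr (Or.inl h)) hqA, absurd ((hzmem q).mpr (Or.inr h)) hqA,
      Or.inl h, Or.inr h]
  have hsol : ¬ Group.IsSolvable (G ⧸ Subgroup.zpowers c) := fun h =>
    s.hns ((Group.isSolvable_iff_subgroup_quotient (Subgroup.zpowers c)).mpr
      ⟨Group.isSolvable_of_comm fun a b => (setLike_mul_comm a.2 b.2 |> Subtype.ext), h⟩)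
  have one' : One H' (Subgroup.zpowers (π z)) (π z) := by
    refine { hz := Invol.orderOf_eq_two hπz hzz, hzA := Subgroup.mem_zpowers _,
             hAH := ?_, hinvol := ?_, hidx := ?_, hinverts := ?_, huniq := ?_,
             hcent := hH'.symm, hns := hsol }
    · refine lt_of_le_of_ne ?_ fun e => hwnot (e ▸ (hH'mem _).mpr hzw.symm)
      rw [Subgroup.zpowers_le, hH'mem]
    · intro q hq hqA
      rcases hout q hq hqA with h | h <;> rw [h]
      · exact hww
      · rw [hzw.mul_mul_mul_comm, hww, hzz, one_mul]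
    · intro q hq hqA q' hq' hqA'
      rw [hzmem]
      rcases hout q hq hqA with h | h <;> rcases hout q' hq' hqA' with h' | h' <;> rw [h, h']
      · exact Or.inl hww
      · exact Or.inr (by rw [← mul_assoc, hww, one_mul])
      · exact Or.inr (by rw [mul_assoc, hzw.eq, ← mul_assoc, hww, one_mul])
      · exact Or.inl (by rw [hzw.mul_mul_mul_comm, hww, hzz, one_mul])
    · intro q hq _ a ha
      rcases (hzmem a).mp ha with rfl | rfl
      · simp
      · rw [((hH'mem q).mp hq).eq, mul_inv_cancel_right, inv_eq_of_mul_eq_one_right hzz]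
    · exact fun a ha _ => (hzmem a).mp ha
  -- dihedral Sylow subgroups
  obtain ⟨T, hT⟩ : ∃ T : Sylow 2 (G ⧸ Subgroup.zpowers c),
      (T : Subgroup (G ⧸ Subgroup.zpowers c)) = (S : Subgroup G).map π :=
    ⟨S.mapSurjective hsur, S.coe_mapSurjective hsur⟩
  obtain ⟨f, hf⟩ : ∃ f : (S : Subgroup G) →* G ⧸ Subgroup.zpowers c,
      f = π.comp (S : Subgroup G).subtype := ⟨_, rfl⟩
  have hfv : ∀ t, f t = π (t : G) := fun t => by rw [hf]; rfl
  have hfker : ∀ t, f t = 1 ↔ t = 1 ∨ t = D.x ^ (4 * D.P) := fun t => by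
    rw [hfv, hker, ← OneMemClass.coe_eq_one, hcdef]
    exact or_congr_right ⟨fun h => Subtype.ext h, fun h => congrArg Subtype.val h⟩
  have hb2 : f D.y * f D.y = 1 := by rw [← map_mul, D.y_mul_y, map_one]
  have hb : f D.y * f D.x * (f D.y)⁻¹ = (f D.x)⁻¹ := by
    rw [← map_inv, ← map_mul, ← map_mul, D.hrel, show (4 * D.P - 1 : ℤ) = 4 * D.P + (-1) by ring,
      zpow_add, map_mul, (hfker _).mpr (Or.inr rfl), one_mul, zpow_neg_one, map_inv]
  have hord : orderOf (f D.x) = 2 ^ (D.p + 2) := by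
    refine orderOf_eq_prime_pow (n := D.p + 1) ?_ ?_
    · intro h
      rw [← map_pow, hfker, ← zpow_natCast, D.zpow_eq_one_iff, D.zpow_eq_iff] at h
      have hP := D.P_pos
      have h2 : ((2 ^ (D.p + 1) : ℕ) : ℤ) = 2 * D.P := by push_cast; rw [D.hP]; ring
      rw [h2] at h
      rcases h with h | h
      · have := Int.le_of_dvd (by omega) h; omega
      · have := Int.le_of_dvd (by omega) ((dvd_neg).mpr h : 8 * D.P ∣ -(2 * D.P - 4 * D.P)); omega
    · rw [← map_pow, hfker]
      refine Or.inr ?_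
      rw [← zpow_natCast]
      congr 1
      push_cast
      rw [D.hP]
      ring
  have hbnot : f D.y ∉ Subgroup.zpowers (f D.x) := by
    intro h
    obtain ⟨k, hk⟩ := Subgroup.mem_zpowers_iff.mp h
    have : f (D.x ^ k * D.y) = 1 := by rw [map_mul, map_zpow, hk, hb2]
    rcases (hfker _).mp this with e | e
    · exact D.zpow_ne_zpow_mul_y 0 k (by rw [e, zpow_zero])
    · exact D.zpow_ne_zpow_mul_y _ k e.symm
  obtain ⟨φ⟩ := CfsgLib.TwoFusion.exists_dihedral_mulEquiv (pow_pos two_pos (D.p + 2)) hord hb2 hb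
    hbnot (T : Subgroup (G ⧸ Subgroup.zpowers c)) (fun q => by
      rw [hT]
      constructor
      · rintro ⟨g, hg, rfl⟩
        obtain ⟨i, h | h⟩ := D.normalForm ⟨g, hg⟩
        · exact ⟨i, Or.inl (by rw [← map_zpow, ← h, hfv])⟩
        · refine ⟨(4 * D.P - 1) * i, Or.inr ?_⟩
          rw [← map_zpow, ← map_mul, D.y_zpow, ← hfv ⟨g, hg⟩, h]
          refine congrArg f ?_
          rw [D.zy_eq_iff]
          exact ⟨i * (1 - 2 * D.P), by ring⟩
      · rintro ⟨i, rfl | rfl⟩
        · exact ⟨_, (D.x ^ i).2, by rw [← map_zpow, hfv]⟩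
        · exact ⟨_, (D.y * D.x ^ i).2, by rw [← map_zpow, ← map_mul, hfv]⟩)
  obtain ⟨F, instF, instFin, h3, hodd, hiso⟩ := one'.dihedral_case hrec
    (oddCore_quotient_central hO hco hcen) (S := T) (hT ▸ Subgroup.mem_map_of_mem π hzS)
    (Nat.le_self_pow (by omega) 2) φ
  rcases hiso with ⟨⟨e⟩⟩ | ⟨⟨e⟩⟩
  · -- `PSL₂(q)` has no subgroup of index two
    have := CfsgLib.Linear.isSimpleGroup_PSL_fin (F := F) 2 le_rfl
      (fun _ => by rw [Nat.card_eq_fintype_card]; omega)
    have : Nontrivial (G ⧸ Subgroup.zpowers c) := ⟨π z, 1, hπz⟩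
    have : IsSimpleGroup (G ⧸ Subgroup.zpowers c) :=
      IsSimpleGroup.isSimpleGroup_of_surjective e.symm.toMonoidHom e.symm.surjective
    have hM' : (M.map π).index = 2 := by
      rw [Subgroup.index_map_eq M hsur (fun x hx => ?_), hM2]
      rcases (hker x).mp hx with h | h <;> rw [h]
      exacts [M.one_mem, hcM]
    rcases (hMn.map π hsur).eq_bot_or_eq_top with h | h
    · rw [h, Subgroup.index_bot] at hM'
      exact hsol (CfsgLib.Zassenhaus.isSolvable_of_card_dvd_twentyfour (by rw [hM']; norm_num))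
    · rw [h, Subgroup.index_top] at hM'
      omega
  · -- involution centralizers of `PGL₂(q)` are too large
    have h4 := four_lt_card_centralizer hodd h3 (t := e (π z))
      (by rw [MulEquiv.orderOf_eq, one'.hz])
    let g : Fin 4 → G ⧸ Subgroup.zpowers c := ![1, π z, π w, π w * π z]
    have hle : Nat.card (Subgroup.centralizer ({e (π z)} : Set (Matrix.ProjGenLinGroup (Fin 2) F)))
        ≤ Nat.card (Fin 4) := by
      have hall : ∀ q : Subgroup.centralizer ({e (π z)} : Set (Matrix.ProjGenLinGroup (Fin 2) F)),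
          ∃ i : Fin 4, e.symm (q : Matrix.ProjGenLinGroup (Fin 2) F) = g i := by
        intro q
        have hq : Commute (q : Matrix.ProjGenLinGroup (Fin 2) F) (e (π z)) :=
          Subgroup.mem_centralizer_singleton_iff.mp q.2
        have := hq.map e.symm.toMonoidHom
        simp only [MulEquiv.coe_toMonoidHom, MulEquiv.symm_apply_apply] at this
        rcases hC' _ this with h | h | h | h
        exacts [⟨0, h⟩, ⟨1, h⟩, ⟨2, h⟩, ⟨3, h⟩]
      choose ι hι using hall
      refine Nat.card_le_card_of_injective ι fun a b hab => ?_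
      exact Subtype.ext (e.symm.injective ((hι a).trans (hab ▸ (hι b).symm)))
    rw [Nat.card_fin] at hle
    omega

end One

end CfsgLib.DGroupCent
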