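import Cfsg.Agent.Lib.DGroupCent.Basic
import Cfsg.Agent.Lib.DGroupCent.Elementary

/-!
# Generalized dihedral centralizers of rank at least two

In the setting of `Setup` the kernel `N` of the action on the cosets of the normalizer of `H` has
order twice an odd number and `G ⧸ N` is `PSL(2,F)` for a field `F` of characteristic `2`.
-/

set_option autoImplicit false
set_option linter.unusedSectionVars false

namespace CfsgLib.DGroupCent

open Subgroup

variable {G : Type*} [Group G]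

/-- A reflection fixing a point other than the base. -/
def Good (H : Subgroup G) (r : G) : Prop :=
  ∃ x : G ⧸ Subgroup.normalizer (H : Set G), x ≠ QuotientGroup.mk 1 ∧ r • x = x

namespace Setup

variable [Finite G] {H A : Subgroup G} (s : Setup H A)

local notation "MM" => Subgroup.normalizer (H : Set G)
local notation "Ω" => G ⧸ Subgroup.normalizer (H : Set G)
local notation "o" => (QuotientGroup.mk 1 : Ω)

include s

theorem exists_conj_isZ_commute {r : G} (hr : Refl H A r) {b : Ω} (hb : b ≠ o) (hrb : r • b = b)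
    {t : G} (ht : IsZ A t) {z g : G} (hz : IsZ A z) (hg : g • o = b) :
    ∃ w : G, Commute w r ∧ w * t * w⁻¹ = g * z * g⁻¹ := by
  obtain ⟨u, hu⟩ : ∃ u, u = g * z * g⁻¹ := ⟨_, rfl⟩
  rw [← hu]
  obtain ⟨y, hy⟩ : ∃ y, y = g⁻¹ * r * g := ⟨_, rfl⟩
  have hy2 : y * y = 1 := by
    rw [hy]
    calc g⁻¹ * r * g * (g⁻¹ * r * g) = g⁻¹ * (r * r) * g := by group
      _ = 1 := by rw [s.refl_sq hr]; group
  have hyH : y ∈ H := s.mem_H_of_invol ((SEmb.smul_one_eq_iff y).mp (by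
    rw [hy, mul_smul, mul_smul, hg, hrb, ← hg, inv_smul_smul])) hy2
  have hr' : r = g * y * g⁻¹ := by rw [hy]; group
  have hyR : Refl H A y := by
    refine ⟨hyH, fun hA => s.refl_not_conj_isZ hr (z := y) (g := g) ⟨hA, hy2, fun e => ?_⟩ hr'.symm⟩
    exact s.refl_ne_one hr (by rw [hr', e]; group)
  have hur : Commute u r := by
    rw [hr', hu]
    exact ((s.isZ_commute hz hyH).symm.map (MulAut.conj g).toMonoidHom)
  have htr : Commute t r := (s.isZ_commute ht hr.1).symm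
  have hu2 : u * u = 1 := by
    rw [hu]
    calc g * z * g⁻¹ * (g * z * g⁻¹) = g * (z * z) * g⁻¹ := by group
      _ = 1 := by rw [hz.2.1]; group
  rcases conj_or_even ht.2.1 hu2 with ⟨n, hn⟩ | ⟨k, hk0, hk⟩
  · exact ⟨_, (htr.mul_left hur).zpow_left n, hn⟩
  exfalso
  have hinv := Invol.conj_prod ht.2.1 hu2
  have htn : ∀ n : ℕ, t * (t * u) ^ n = ((t * u) ^ n)⁻¹ * t := fun n => by
    have := Invol.conj_zpow_of_inverts hinv (n : ℤ)
    rw [zpow_natCast, zpow_neg, zpow_natCast, mul_inv_eq_iff_eq_mul] at this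
    exact this
  obtain ⟨σ, hσ⟩ : ∃ σ, σ = (t * u) ^ k := ⟨_, rfl⟩
  have hσ2 : σ * σ = 1 := by rw [hσ, ← pow_add, ← two_mul, ← hk, pow_orderOf_eq_one]
  have hσ1 : σ ≠ 1 := hσ ▸ pow_ne_one_of_lt_orderOf hk0.ne' (by omega)
  have hσt : Commute σ t := by
    have := htn k
    rw [← hσ, inv_eq_of_mul_eq_one_right hσ2] at this
    exact this.symm
  have hσu : Commute σ u := by
    have h2 := hσt.mul_right (hσ ▸ (Commute.refl (t * u)).pow_left k : Commute σ (t * u))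
    rwa [← mul_assoc, ht.2.1, one_mul] at h2
  have hσr : Commute σ r := hσ ▸ (htr.mul_left hur).pow_left k
  have hσH : σ ∈ H := s.mem_of_commute ht hσt
  have hσb : σ • b = b := by
    refine (s.isZ_conj_fix hz (g := g) ?_).trans hg
    rw [← hu]
    have hub : u • b = b := by rw [hu, ← hg, s.isZ_conj_smul hz]
    exact SEmb.smul_comm_fix hub hσu
  have hσA : σ ∉ A := fun h => hb (s.isZ_fix ⟨h, hσ2, hσ1⟩ hσb)
  have hσeq : σ = r := by
    by_contra hne
    refine hb (s.isZ_fix (z := r * σ) ⟨s.hidx r hr.1 hr.2 σ hσH hσA, ?_, fun e => hne ?_⟩ ?_)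
    · rw [hσr.mul_mul_mul_comm, s.refl_sq hr, hσ2, one_mul]
    · exact (eq_inv_of_mul_eq_one_right e).trans (inv_eq_of_mul_eq_one_right (s.refl_sq hr))
    · rw [mul_smul, hσb, hrb]
  rcases Nat.even_or_odd k with ⟨j, hj⟩ | ⟨j, hj⟩
  · refine s.no_sqrt hr (x := (t * u) ^ j) ?_
    rw [← pow_add, ← hj, ← hσ, hσeq]
  · -- `t` would be conjugate to a reflection
    have e : ((t * u) ^ (j + 1))⁻¹ * t * (t * u) ^ (j + 1) = u * r := by
      rw [mul_assoc, htn, ← mul_assoc, ← mul_inv_rev, ← pow_add,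
        show j + 1 + (j + 1) = k + 1 by omega, pow_succ', ← hσ, hσeq, mul_inv_rev, mul_inv_rev,
        inv_eq_of_mul_eq_one_right (s.refl_sq hr), inv_eq_of_mul_eq_one_right ht.2.1,
        inv_eq_of_mul_eq_one_right hu2, mul_assoc, mul_assoc, ht.2.1, mul_one, hur.eq]
    refine s.refl_not_conj_isZ (s.refl_mul_A hyR hz.1) ht
      (g := g⁻¹ * ((t * u) ^ (j + 1))⁻¹) ?_
    calc g⁻¹ * ((t * u) ^ (j + 1))⁻¹ * t * (g⁻¹ * ((t * u) ^ (j + 1))⁻¹)⁻¹
        = g⁻¹ * (((t * u) ^ (j + 1))⁻¹ * t * (t * u) ^ (j + 1)) * g := by group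
      _ = g⁻¹ * (u * r) * g := by rw [e]
      _ = z * y := by rw [hu, hy]; group
      _ = y * z := (s.isZ_commute hz hyH).eq.symm

/-- The centralizer of a good reflection in `M` is transitive on the involutions of `A`. -/
theorem trans_isZ {r : G} (hr : Refl H A r) (hg : Good H r) {t t' : G} (ht : IsZ A t)
    (ht' : IsZ A t') : ∃ c ∈ MM, Commute c r ∧ c * t * c⁻¹ = t' := by
  obtain ⟨b, hb, hrb⟩ := hg
  obtain ⟨g, hgb⟩ := MulAction.exists_smul_eq G o b
  obtain ⟨z, hz⟩ := s.exists_isZ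
  obtain ⟨w, hw, hwe⟩ := s.exists_conj_isZ_commute hr hb hrb ht hz hgb
  obtain ⟨w', hw', hwe'⟩ := s.exists_conj_isZ_commute hr hb hrb ht' hz hgb
  have e : w'⁻¹ * w * t * (w'⁻¹ * w)⁻¹ = t' := by
    calc w'⁻¹ * w * t * (w'⁻¹ * w)⁻¹ = w'⁻¹ * (w * t * w⁻¹) * w' := by group
      _ = w'⁻¹ * (w' * t' * w'⁻¹) * w' := by rw [hwe, hwe']
      _ = t' := by group
  exact ⟨w'⁻¹ * w, s.mem_M_of_conj ht (e.symm ▸ ht'), hw'.inv_left.mul_left hw, e⟩

/-- The centralizer of a good reflection is transitive on its fixed points. -/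
theorem trans_fix {r : G} (hr : Refl H A r) {c : Ω} (hrc : r • c = c) :
    ∃ g : G, Commute g r ∧ g • o = c := by
  by_cases hc : c = o
  · exact ⟨1, Commute.one_left r, by rw [one_smul, hc]⟩
  obtain ⟨g, hgc⟩ := MulAction.exists_smul_eq G o c
  obtain ⟨z, hz⟩ := s.exists_isZ
  obtain ⟨w, hw, hwe⟩ := s.exists_conj_isZ_commute hr hc hrc hz hz hgc
  refine ⟨w, hw, (s.isZ_conj_fix hz (g := g) ?_).trans hgc⟩
  rw [← hwe]
  exact s.isZ_conj_smul hz w

theorem refl_conj_A {r a : G} (hr : Refl H A r) (ha : a ∈ A) :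
    a * r * a⁻¹ = r * (a⁻¹ * a⁻¹) := by
  have h := s.hinverts r hr.1 hr.2 a⁻¹ (A.inv_mem ha)
  rw [inv_inv] at h
  calc a * r * a⁻¹ = (r * a⁻¹ * r⁻¹) * r * a⁻¹ := by rw [h]
    _ = r * (a⁻¹ * a⁻¹) := by group

/-- Conjugates under `M` of a good reflection `r` lie in `r A²`. -/
theorem conj_mem_sq {r : G} (hr : Refl H A r) (hg : Good H r) {x : G} (hx : x ∈ MM) :
    ∃ a ∈ A, x * r * x⁻¹ = r * (a * a) := by
  obtain ⟨t, ht⟩ := s.exists_isZ
  obtain ⟨c, hc, hcr, hct⟩ := s.trans_isZ hr hg ht (s.M_conj_isZ hx ht)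
  have heH : c⁻¹ * x ∈ H := by
    refine s.mem_of_commute ht (mul_inv_eq_iff_eq_mul.mp ?_)
    calc c⁻¹ * x * t * (c⁻¹ * x)⁻¹ = c⁻¹ * (x * t * x⁻¹) * c := by group
      _ = c⁻¹ * (c * t * c⁻¹) * c := by rw [hct]
      _ = t := by group
  obtain ⟨a, ha, he⟩ : ∃ a ∈ A, c⁻¹ * x * r * (c⁻¹ * x)⁻¹ = r * (a * a) := by
    by_cases heA : c⁻¹ * x ∈ A
    · exact ⟨_, A.inv_mem heA, s.refl_conj_A hr heA⟩
    · obtain ⟨a, ha, hea⟩ : ∃ a ∈ A, c⁻¹ * x = r * a :=
        ⟨r⁻¹ * (c⁻¹ * x), by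
          rw [inv_eq_of_mul_eq_one_right (s.refl_sq hr)]
          exact s.hidx r hr.1 hr.2 _ heH heA, by group⟩
      refine ⟨a, ha, ?_⟩
      calc c⁻¹ * x * r * (c⁻¹ * x)⁻¹ = r * (a * r * a⁻¹) * r⁻¹ := by rw [hea]; group
        _ = r * (r * (a⁻¹ * a⁻¹)) * r⁻¹ := by rw [s.refl_conj_A hr ha]
        _ = r * ((r * a⁻¹ * r⁻¹) * (r * a⁻¹ * r⁻¹)) := by group
        _ = r * (a * a) := by rw [s.hinverts r hr.1 hr.2 _ (A.inv_mem ha), inv_inv]
  refine ⟨c * a * c⁻¹, s.M_conj_A hc ha, ?_⟩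
  calc x * r * x⁻¹ = c * (c⁻¹ * x * r * (c⁻¹ * x)⁻¹) * c⁻¹ := by group
    _ = (c * r * c⁻¹) * ((c * a * c⁻¹) * (c * a * c⁻¹)) := by rw [he]; group
    _ = r * ((c * a * c⁻¹) * (c * a * c⁻¹)) := by rw [hcr.eq, mul_inv_cancel_right]

theorem good_of_conj {r r' d : G} (hr : r ∈ H) (hg : Good H r) (he : d * r * d⁻¹ = r') :
    Good H r' := by
  obtain ⟨b, hb, hrb⟩ := hg
  have h1 : ∀ x : Ω, r • x = x → r' • (d • x) = d • x := fun x hx => by
    rw [← he, smul_smul, inv_mul_cancel_right, mul_smul, hx]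
  by_cases hd : d • o = o
  · exact ⟨d • b, fun e => hb (smul_left_cancel d (e.trans hd.symm)), h1 b hrb⟩
  · exact ⟨d • o, hd, h1 o (s.smul_base_of_H hr)⟩

/-- If some conjugate of a reflection moves the base point, it is conjugate to the product of a
good reflection and an involution of `A`. -/
theorem obstruction {r g : G} (hr : Refl H A r) (hmove : (g * r * g⁻¹) • o ≠ o) :
    ∃ i z d : G, Refl H A i ∧ Good H i ∧ IsZ A z ∧ d * r * d⁻¹ = i * z := by
  obtain ⟨r', hr'⟩ : ∃ r', r' = g * r * g⁻¹ := ⟨_, rfl⟩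
  rw [← hr'] at hmove
  obtain ⟨t, ht⟩ := s.exists_isZ
  have hr'2 : r' * r' = 1 := by
    rw [hr']
    calc g * r * g⁻¹ * (g * r * g⁻¹) = g * (r * r) * g⁻¹ := by group
      _ = 1 := by rw [s.refl_sq hr]; group
  have hr'1 : r' ≠ 1 := fun e => s.refl_ne_one hr (conj_eq_one_iff.mp (hr' ▸ e))
  rcases SEmb.exists_half_conj (Invol.orderOf_eq_two ht.2.2 ht.2.1)
      (Invol.orderOf_eq_two hr'1 hr'2) with ⟨w, hw, -⟩ | ⟨i, hi, hit, hir⟩
  · refine absurd ?_ (s.refl_not_conj_isZ hr ht (g := g⁻¹ * w))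
    calc g⁻¹ * w * t * (g⁻¹ * w)⁻¹ = g⁻¹ * (w * t * w⁻¹) * g := by group
      _ = r := by rw [hw, hr']; group
  have hi2 := Invol.mul_self_eq_one hi
  have hiH := s.mem_of_commute ht hit
  have hibase := s.smul_base_of_H hiH
  have hfix : i • (r' • o) = r' • o := SEmb.smul_comm_fix hibase hir.symm
  have hiR : Refl H A i := ⟨hiH, fun hA =>
    hmove (s.isZ_fix ⟨hA, hi2, fun e => by simp [e] at hi⟩ hfix)⟩
  have hgood : Good H i := ⟨_, hmove, hfix⟩
  obtain ⟨c, hic, hrc⟩ := s.exists_fix_of_commute hiH hir.symm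
    fun x _ => by rw [smul_smul, hr'2, one_smul]
  obtain ⟨k, hki, hkc⟩ := s.trans_fix hiR hic
  obtain ⟨y, hy⟩ : ∃ y, y = k⁻¹ * r' * k := ⟨_, rfl⟩
  have hy2 : y * y = 1 := by
    rw [hy]
    calc k⁻¹ * r' * k * (k⁻¹ * r' * k) = k⁻¹ * (r' * r') * k := by group
      _ = 1 := by rw [hr'2]; group
  have hyH : y ∈ H := s.mem_H_of_invol ((SEmb.smul_one_eq_iff y).mp (by
    rw [hy, mul_smul, mul_smul, hkc, hrc, ← hkc, inv_smul_smul])) hy2
  have hyi : Commute y i := hy ▸ (hki.inv_left.mul_left hir.symm).mul_left hki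
  have hyd : k⁻¹ * g * r * (k⁻¹ * g)⁻¹ = y := by rw [hy, hr']; group
  have hyA : y ∉ A := fun hA => by
    refine s.refl_not_conj_isZ hr (z := y) (g := g⁻¹ * k) ⟨hA, hy2, fun e => ?_⟩ ?_
    · exact hr'1 (by rw [show r' = k * y * k⁻¹ by rw [hy]; group, e]; group)
    · rw [← hyd]; group
  refine ⟨i, i * y, k⁻¹ * g, hiR, hgood, ⟨s.hidx i hiR.1 hiR.2 y hyH hyA, ?_, fun e => ?_⟩, ?_⟩
  · rw [hyi.mul_mul_mul_comm, hi2, hy2, one_mul]
  · have hyeq : y = i := (eq_inv_of_mul_eq_one_right e).trans (inv_eq_of_mul_eq_one_right hi2)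
    apply hmove
    have : r' = k * i * k⁻¹ := by rw [← hyeq, hy]; group
    rw [this, hki.eq, mul_inv_cancel_right, hibase]
  · rw [hyd, ← mul_assoc, hi2, one_mul]

theorem fix_all_or_obstruction {r : G} (hr : Refl H A r) :
    (∀ x : Ω, r • x = x) ∨
      ∃ i z d : G, Refl H A i ∧ Good H i ∧ IsZ A z ∧ d * r * d⁻¹ = i * z := by
  by_cases h : ∀ g : G, (g * r * g⁻¹) • o = o
  · refine Or.inl fun x => ?_
    obtain ⟨g, rfl⟩ := MulAction.exists_smul_eq G o x
    have := h g⁻¹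
    rw [inv_inv, mul_smul, mul_smul, inv_smul_eq_iff] at this
    exact this
  · obtain ⟨g, hg⟩ := not_forall.mp h
    exact Or.inr (s.obstruction hr hg)

theorem M_isSolvable : Group.IsSolvable MM := by
  have hHn : (H.subgroupOf MM).Normal := Subgroup.normal_in_normalizer
  have hodd : Odd (Nat.card (MM ⧸ H.subgroupOf MM)) := by
    rw [← Nat.not_even_iff_odd, even_iff_two_dvd]
    intro h2
    obtain ⟨q, hq⟩ := exists_prime_orderOf_dvd_card' (G := MM ⧸ H.subgroupOf MM) 2 h2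
    obtain ⟨x, rfl⟩ := QuotientGroup.mk_surjective q
    have h3 : ((x * x : MM) : MM ⧸ H.subgroupOf MM) = 1 := by
      rw [QuotientGroup.mk_mul, ← pow_two, ← hq, pow_orderOf_eq_one]
    rw [QuotientGroup.eq_one_iff] at h3
    have hx : x ∈ H.subgroupOf MM := s.mem_H_of_sq x.2 h3
    rw [(QuotientGroup.eq_one_iff x).mpr hx, orderOf_one] at hq
    omega
  have hAcomm : Group.IsSolvable A := by
    let : CommGroup A := { (inferInstance : Group A) with
      mul_comm := fun a b => Subtype.ext (s.comm_A a.2 b.2).eq }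
    infer_instance
  have hAn : (A.subgroupOf H).Normal :=
    ⟨fun n hn g => Subgroup.mem_subgroupOf.mpr (s.conj_A g.2 hn)⟩
  have hq : Group.IsSolvable (H ⧸ A.subgroupOf H) := by
    have h2 : ∀ q : H ⧸ A.subgroupOf H, q * q = 1 := fun q => by
      obtain ⟨⟨x, hx⟩, rfl⟩ := QuotientGroup.mk_surjective q
      rw [← QuotientGroup.mk_mul, QuotientGroup.eq_one_iff, Subgroup.mem_subgroupOf]
      by_cases hxA : x ∈ A
      · exact A.mul_mem hxA hxA
      · exact s.hidx x hx hxA x hx hxA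
    let : CommGroup (H ⧸ A.subgroupOf H) := { (inferInstance : Group _) with
      mul_comm := fun a b => by
        have hab := inv_eq_of_mul_eq_one_right (h2 (a * b))
        rw [mul_inv_rev, inv_eq_of_mul_eq_one_right (h2 a), inv_eq_of_mul_eq_one_right (h2 b)]
          at hab
        exact hab.symm }
    infer_instance
  have hA' : Group.IsSolvable (A.subgroupOf H) :=
    Group.isSolvable_of_isSolvable_injective
      (f := ((Subgroup.subgroupOfEquivOfLe s.le).toMonoidHom))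
      (Subgroup.subgroupOfEquivOfLe s.le).injective
  have hH : Group.IsSolvable H :=
    (Group.isSolvable_iff_subgroup_quotient (A.subgroupOf H)).mpr ⟨hA', hq⟩
  have hH' : Group.IsSolvable (H.subgroupOf MM) :=
    Group.isSolvable_of_isSolvable_injective
      (f := ((Subgroup.subgroupOfEquivOfLe s.le_M).toMonoidHom))
      (Subgroup.subgroupOfEquivOfLe s.le_M).injective
  exact (Group.isSolvable_iff_subgroup_quotient (H.subgroupOf MM)).mpr
    ⟨hH', CfsgLib.FT.solvable_of_odd hodd⟩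

theorem exists_ne_base : ∃ x : Ω, x ≠ o := by
  by_contra! h
  refine s.hns ?_
  have htop : MM = ⊤ := (Subgroup.eq_top_iff' _).mpr fun g => by
    simpa using QuotientGroup.eq.mp (h (QuotientGroup.mk g)).symm
  have := s.M_isSolvable
  rw [htop] at this
  exact Group.isSolvable_of_surjective (f := (⊤ : Subgroup G).subtype)
    fun g => ⟨⟨g, trivial⟩, rfl⟩

theorem obstruction_of_bad {r : G} (hr : Refl H A r) (hbad : ¬ Good H r) :
    ∃ i z d : G, Refl H A i ∧ Good H i ∧ IsZ A z ∧ d * r * d⁻¹ = i * z := by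
  refine (s.fix_all_or_obstruction hr).resolve_left fun h => hbad ?_
  obtain ⟨x, hx⟩ := s.exists_ne_base
  exact ⟨x, hx, h x⟩

theorem exists_good : ∃ r, Refl H A r ∧ Good H r := by
  obtain ⟨r, hr⟩ := s.exists_refl
  by_cases hg : Good H r
  · exact ⟨r, hr, hg⟩
  · obtain ⟨i, z, d, hi, hgi, -, -⟩ := s.obstruction_of_bad hr hg
    exact ⟨i, hi, hgi⟩

theorem exists_isZ_ne (z : G) : ∃ z', IsZ A z' ∧ z' ≠ z := by
  obtain ⟨z₁, z₂, h1, h1', h1'', h2, h2', h2'', hne⟩ := s.hrank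
  by_cases h : z₁ = z
  · exact ⟨z₂, ⟨h2, h2', h2''⟩, fun e => hne (h.trans e.symm)⟩
  · exact ⟨z₁, ⟨h1, h1', h1''⟩, h⟩

/-- Some involution of `A` is not a square in `A`. -/
theorem exists_isZ_not_sq : ∃ z, IsZ A z ∧ ∀ a ∈ A, z ≠ a * a := by
  by_contra! hall
  have allgood : ∀ r, Refl H A r → Good H r := by
    intro r hr
    by_contra hbad
    obtain ⟨i, z, d, hi, hgi, hz, hd⟩ := s.obstruction_of_bad hr hbad
    obtain ⟨a, ha, hza⟩ := hall z hz
    have e : a * i * a⁻¹ = i * z := by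
      rw [s.refl_conj_A hi ha, ← mul_inv_rev, ← hza, inv_eq_of_mul_eq_one_right hz.2.1]
    have h2 : Good H (i * z) := s.good_of_conj hi.1 hgi e
    exact hbad (s.good_of_conj (H.mul_mem hi.1 (s.le hz.1)) h2 (d := d⁻¹) (by rw [← hd]; group))
  have hsq : ∀ x ∈ MM, ∀ a ∈ A, ∃ c ∈ A, x * a * x⁻¹ = a * (c * c) := by
    intro x hx a ha
    obtain ⟨r, hr⟩ := s.exists_refl
    obtain ⟨b, hb, hxb⟩ := s.conj_mem_sq hr (allgood r hr) hx
    have hra := s.refl_mul_A hr ha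
    obtain ⟨c, hc, hxc⟩ := s.conj_mem_sq hra (allgood _ hra) hx
    refine ⟨b⁻¹ * c, A.mul_mem (A.inv_mem hb) hc, ?_⟩
    have h0 : (x * r * x⁻¹) * (x * a * x⁻¹) = r * a * (c * c) := by rw [← hxc]; group
    rw [hxb] at h0
    have e2 : b⁻¹ * c * (b⁻¹ * c) = (b * b)⁻¹ * (c * c) := by
      rw [(s.comm_A hc (A.inv_mem hb)).mul_mul_mul_comm, mul_inv_rev]
    calc x * a * x⁻¹ = (b * b)⁻¹ * r⁻¹ * (r * (b * b) * (x * a * x⁻¹)) := by group
      _ = ((b * b)⁻¹ * a) * (c * c) := by rw [h0]; group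
      _ = (a * (b * b)⁻¹) * (c * c) := by
        rw [(s.comm_A ha (A.inv_mem (A.mul_mem hb hb))).eq]
      _ = _ := by rw [e2, mul_assoc]
  obtain ⟨r, hr, hg⟩ := s.exists_good
  obtain ⟨z, hz⟩ := s.exists_isZ
  obtain ⟨z', hz', hne⟩ := s.exists_isZ_ne z
  obtain ⟨x, hx, -, hxz⟩ := s.trans_isZ hr hg hz hz'
  have hind : ∀ n : ℕ, ∀ j, IsZ A j → ∃ a ∈ A, j = a ^ 2 ^ n := by
    intro n
    induction n with
    | zero => exact fun j hj => ⟨j, hj.1, by simp⟩
    | succ n ih =>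
      obtain ⟨a, ha, hza⟩ := ih z hz
      obtain ⟨c, hc, hac⟩ := hsq x hx a ha
      have hw : z⁻¹ * z' = c ^ 2 ^ (n + 1) := by
        have : z' = z * c ^ 2 ^ (n + 1) := by
          rw [← hxz, hza, ← conj_pow, hac, (s.comm_A ha (A.mul_mem hc hc)).mul_pow, ← pow_two,
            ← pow_mul, ← pow_succ']
        rw [this, inv_mul_cancel_left]
      have hwZ : IsZ A (z⁻¹ * z') := by
        refine ⟨A.mul_mem (A.inv_mem hz.1) hz'.1, ?_, fun e => hne (inv_mul_eq_one.mp e).symm⟩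
        rw [(s.comm_A hz'.1 (A.inv_mem hz.1)).mul_mul_mul_comm, hz'.2.1, ← mul_inv_rev, hz.2.1,
          inv_one, one_mul]
      intro j hj
      obtain ⟨m, hm, -, hmj⟩ := s.trans_isZ hr hg hwZ hj
      exact ⟨m * c * m⁻¹, s.M_conj_A hm hc, by rw [conj_pow, ← hw, hmj]⟩
  obtain ⟨a, -, ha⟩ := hind (Nat.card G) z hz
  have h1 : ¬ a ^ 2 ^ Nat.card G = 1 := fun e => hz.2.2 (ha.trans e)
  have h2 : a ^ 2 ^ (Nat.card G + 1) = 1 := by
    rw [pow_succ, pow_mul, ← ha, pow_two, hz.2.1]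
  have h3 := orderOf_eq_prime_pow h1 h2
  have h4 : orderOf a ≤ Nat.card G := Nat.le_of_dvd Nat.card_pos (orderOf_dvd_natCard a)
  have h5 := Nat.lt_two_pow_self (n := Nat.card G + 1)
  omega

theorem not_good_mul {i z : G} (hi : Refl H A i) (hg : Good H i) (hz : IsZ A z) :
    ¬ Good H (i * z) := by
  intro hgz
  obtain ⟨z₀, hz₀, hno⟩ := s.exists_isZ_not_sq
  have hmain : ∀ z', IsZ A z' → ∃ a ∈ A, z * z' = a * a := by
    intro z' hz'
    obtain ⟨c, hc, hci, hcz⟩ := s.trans_isZ hi hg hz hz'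
    obtain ⟨a, ha, hca⟩ := s.conj_mem_sq (s.refl_mul_A hi hz.1) hgz hc
    refine ⟨a, ha, ?_⟩
    have e : c * (i * z) * c⁻¹ = i * z' := by
      calc c * (i * z) * c⁻¹ = (c * i * c⁻¹) * (c * z * c⁻¹) := by group
        _ = i * z' := by rw [hci.eq, mul_inv_cancel_right, hcz]
    rw [e, mul_assoc, mul_left_cancel_iff] at hca
    rw [hca, ← mul_assoc, hz.2.1, one_mul]
  have hother : ∀ z₁, IsZ A z₁ → z₁ ≠ z → ∃ a ∈ A, z₁ = a * a := by
    intro z₁ h1 hne
    obtain ⟨a, ha, he⟩ := hmain (z * z₁) ⟨A.mul_mem hz.1 h1.1, by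
      rw [(s.comm_A h1.1 hz.1).mul_mul_mul_comm, hz.2.1, h1.2.1, one_mul],
      fun e => hne ((eq_inv_of_mul_eq_one_right e).trans (inv_eq_of_mul_eq_one_right hz.2.1))⟩
    exact ⟨a, ha, by rwa [← mul_assoc, hz.2.1, one_mul] at he⟩
  by_cases hzz : z₀ = z
  · obtain ⟨z₁, h1, hne⟩ := s.exists_isZ_ne z
    obtain ⟨a, ha, he⟩ := hmain z₁ h1
    obtain ⟨b, hb, he'⟩ := hother z₁ h1 hne
    refine hno (a * b) (A.mul_mem ha hb) ?_
    rw [(s.comm_A hb ha).mul_mul_mul_comm, ← he, ← he', hzz, mul_assoc, h1.2.1, mul_one]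
  · obtain ⟨a, ha, he⟩ := hother z₀ hz₀ hzz
    exact hno a ha he

theorem fix_of_good {r : G} (hr : Refl H A r) (hg : Good H r) : ∀ x : Ω, r • x = x :=
  (s.fix_all_or_obstruction hr).resolve_right fun ⟨_, _, d, hi, hgi, hz, hd⟩ =>
    s.not_good_mul hi hgi hz (s.good_of_conj hr.1 hg (d := d) hd)

theorem isZ_not_sq {z : G} (hz : IsZ A z) {a : G} (ha : a ∈ A) : z ≠ a * a := by
  intro e
  obtain ⟨z₀, hz₀, hno⟩ := s.exists_isZ_not_sq
  obtain ⟨r, hr, hg⟩ := s.exists_good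
  obtain ⟨c, hc, -, hcz⟩ := s.trans_isZ hr hg hz hz₀
  refine hno (c * a * c⁻¹) (s.M_conj_A hc ha) ?_
  rw [← hcz, e]; group

theorem mem_core_iff {g : G} : g ∈ (MM).normalCore ↔ ∀ x : Ω, g • x = x := by
  rw [Subgroup.normalCore_eq_ker, MonoidHom.mem_ker]
  exact Equiv.ext_iff

theorem isZ_not_mem_core {z : G} (hz : IsZ A z) : z ∉ (MM).normalCore := fun h => by
  obtain ⟨x, hx⟩ := s.exists_ne_base
  exact hx (s.isZ_fix hz (s.mem_core_iff.mp h x))

theorem card_core : ∃ m : ℕ, Odd m ∧ Nat.card (MM).normalCore = 2 * m := by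
  obtain ⟨r, hr, hg⟩ := s.exists_good
  have hrK : r ∈ (MM).normalCore := s.mem_core_iff.mpr (s.fix_of_good hr hg)
  have h2 : 2 ∣ Nat.card (MM).normalCore := by
    rw [← orderOf_eq_prime (show r ^ 2 = 1 by rw [pow_two]; exact s.refl_sq hr) (s.refl_ne_one hr)]
    exact Subgroup.orderOf_dvd_natCard (MM).normalCore hrK
  obtain ⟨m, hm⟩ := h2
  refine ⟨m, ?_, hm⟩
  rw [← Nat.not_even_iff_odd, even_iff_two_dvd]
  rintro ⟨l, rfl⟩
  obtain ⟨P, hP⟩ := Sylow.exists_subgroup_card_pow_prime (G := (MM).normalCore) 2 (n := 2)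
    ⟨l, by rw [hm]; ring⟩
  have hout : ∀ x : P, x ≠ 1 → ((x : (MM).normalCore) : G) ∈ H ∧
      ((x : (MM).normalCore) : G) ∉ A := by
    intro x hx
    have hx4 : ((x : (MM).normalCore) : G) ^ 2 ^ 2 = 1 := by
      have := pow_card_eq_one' (x := x)
      rw [hP] at this
      simpa using congrArg (fun y : P => ((y : (MM).normalCore) : G)) this
    have hxH := s.mem_H_of_pow ((MM).normalCore_le (x : (MM).normalCore).2) 2
      (by rw [hx4]; exact H.one_mem)
    refine ⟨hxH, fun hxA => ?_⟩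
    obtain ⟨g, hg⟩ : ∃ g, g = ((x : (MM).normalCore) : G) := ⟨_, rfl⟩
    have hg1 : g ≠ 1 := fun e => hx (Subtype.ext (Subtype.ext (hg ▸ e)))
    have hgK : g ∈ (MM).normalCore := hg ▸ (x : (MM).normalCore).2
    rw [← hg] at hxA hx4
    by_cases hgg : g * g = 1
    · exact s.isZ_not_mem_core ⟨hxA, hgg, hg1⟩ hgK
    · refine s.isZ_not_mem_core ⟨A.mul_mem hxA hxA, ?_, hgg⟩ (mul_mem hgK hgK)
      rw [← hx4]; simp [pow_succ, mul_assoc]
  have hsub : ∀ x y : P, x ≠ 1 → y ≠ 1 → x = y := by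
    intro x y hx hy
    by_contra hne
    have hx' := hout x hx
    have hy' := hout y hy
    refine (hout (x * y) fun e => hne ?_).2 (s.hidx _ hx'.1 hx'.2 _ hy'.1 hy'.2)
    have hyy : y * y = 1 := Subtype.ext (Subtype.ext (s.hinvol _ hy'.1 hy'.2))
    exact (eq_inv_of_mul_eq_one_left e).trans (inv_eq_of_mul_eq_one_right hyy)
  classical
  have hle : Nat.card P ≤ 2 := by
    refine (Nat.card_le_card_of_injective (fun x : P => decide (x = 1)) ?_).trans (by simp)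
    intro x y e
    simp only [decide_eq_decide] at e
    by_cases hx : x = 1
    · rw [hx, e.mp hx]
    · exact hsub x y hx fun hy => hx (e.mpr hy)
  omega

set_option maxHeartbeats 1000000 in
theorem exists_quotient :
    ∃ (N : Subgroup G) (_ : N.Normal), (∃ m : ℕ, Odd m ∧ Nat.card N = 2 * m) ∧
      ∃ (F : Type) (_ : Field F) (_ : Fintype F), 3 < Fintype.card F ∧
        Nonempty (G ⧸ N ≃* Matrix.ProjectiveSpecialLinearGroup (Fin 2) F) := by
  refine ⟨(MM).normalCore, inferInstance, s.card_core, ?_⟩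
  obtain ⟨r, hr, hg⟩ := s.exists_good
  have hrK : r ∈ (MM).normalCore := s.mem_core_iff.mpr (s.fix_of_good hr hg)
  let Z : Subgroup G :=
    { carrier := {a | a ∈ A ∧ a * a = 1}
      one_mem' := ⟨A.one_mem, one_mul 1⟩
      mul_mem' := fun {a b} ha hb => ⟨A.mul_mem ha.1 hb.1, by
        rw [(s.comm_A hb.1 ha.1).mul_mul_mul_comm, ha.2, hb.2, one_mul]⟩
      inv_mem' := fun {a} ha => ⟨A.inv_mem ha.1, by rw [← mul_inv_rev, ha.2, inv_one]⟩ }
  have hsqK : ∀ a ∈ A, a * a ∈ (MM).normalCore := by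
    intro a ha
    have h := mul_mem ((inferInstance : (MM).normalCore.Normal).conj_mem r hrK a⁻¹) (inv_mem hrK)
    have e := s.refl_conj_A hr (A.inv_mem ha)
    rw [inv_inv] at e h
    rw [e, mul_assoc, show a * a * r⁻¹ = r⁻¹ * (r * a * r⁻¹ * (r * a * r⁻¹)) by group,
      s.hinverts r hr.1 hr.2 a ha, mul_inv_cancel_left] at h
    simpa using inv_mem h
  -- `A` is the product of its involutions and its squares
  have hdec : ∀ a ∈ A, ∃ z ∈ Z, a * z⁻¹ ∈ (MM).normalCore := by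
    intro a ha
    let S : Subgroup G :=
      { carrier := {b | ∃ c ∈ A, b = c * c}
        one_mem' := ⟨1, A.one_mem, (one_mul 1).symm⟩
        mul_mem' := fun {x y} ⟨c, hc, hx⟩ ⟨d, hd, hy⟩ => ⟨c * d, A.mul_mem hc hd, by
          rw [hx, hy, (s.comm_A hd hc).mul_mul_mul_comm]⟩
        inv_mem' := fun {x} ⟨c, hc, hx⟩ => ⟨c⁻¹, A.inv_mem hc, by rw [hx, mul_inv_rev]⟩ }
    have hSA : ∀ b ∈ S, b ∈ A := fun b ⟨c, hc, hb⟩ => hb ▸ A.mul_mem hc hc
    let f : S → S := fun b => ⟨b.1 * b.1, b.1, hSA b b.2, rfl⟩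
    have hinj : Function.Injective f := by
      intro b c e
      have e' : b.1 * b.1 = c.1 * c.1 := congrArg Subtype.val e
      have hbc : b.1 * c.1⁻¹ ∈ S := S.mul_mem b.2 (S.inv_mem c.2)
      refine Subtype.ext (mul_inv_eq_one.mp ?_)
      by_contra hne
      obtain ⟨d, hd, hbd⟩ := hbc
      refine s.isZ_not_sq ⟨A.mul_mem (hSA b b.2) (A.inv_mem (hSA c c.2)), ?_, hne⟩ hd hbd
      rw [(s.comm_A (A.inv_mem (hSA c c.2)) (hSA b b.2)).mul_mul_mul_comm, e', ← mul_inv_rev,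
        mul_inv_cancel]
    obtain ⟨⟨b, hb⟩, hbe⟩ := Finite.surjective_of_injective hinj ⟨a * a, a, ha, rfl⟩
    have hbe' : b * b = a * a := congrArg Subtype.val hbe
    refine ⟨a * b⁻¹, ⟨A.mul_mem ha (A.inv_mem (hSA b hb)), ?_⟩, ?_⟩
    · rw [(s.comm_A (A.inv_mem (hSA b hb)) ha).mul_mul_mul_comm, ← hbe', ← mul_inv_rev,
        mul_inv_cancel]
    · obtain ⟨c, hc, rfl⟩ := hb
      rw [mul_inv_rev, inv_inv, ← mul_assoc, (s.comm_A ha (A.mul_mem hc hc)).eq,
        mul_inv_cancel_right]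
      exact hsqK c hc
  have hdecH : ∀ h ∈ H, ∃ z ∈ Z, h * z⁻¹ ∈ (MM).normalCore := by
    intro h hh
    by_cases hA : h ∈ A
    · exact hdec h hA
    · obtain ⟨z, hz, hK⟩ := hdec (r * h) (s.hidx r hr.1 hr.2 h hh hA)
      refine ⟨z, hz, ?_⟩
      rw [show h * z⁻¹ = r⁻¹ * (r * h * z⁻¹) by group]
      exact mul_mem (inv_mem hrK) hK
  let E : Subgroup (G ⧸ (MM).normalCore) := Z.map (QuotientGroup.mk' _)
  have hZK : ∀ z ∈ Z, z ∈ (MM).normalCore → z = 1 := fun z hz hK => by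
    by_contra h1
    exact s.isZ_not_mem_core ⟨hz.1, hz.2, h1⟩ hK
  have hcard : 4 ≤ Nat.card E := by
    have hi : Function.Injective (fun z : Z => (⟨_, Subgroup.mem_map_of_mem
        (QuotientGroup.mk' (MM).normalCore) z.2⟩ : E)) := by
      intro z w e
      have e' : (z.1 : G ⧸ (MM).normalCore) = w.1 := congrArg Subtype.val e
      exact Subtype.ext (inv_mul_eq_one.mp
        (hZK _ (Z.mul_mem (Z.inv_mem z.2) w.2) (QuotientGroup.eq.mp e')))
    refine le_trans ?_ (Nat.card_le_card_of_injective _ hi)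
    obtain ⟨z₁, z₂, h1, h1', h1'', h2, h2', h2'', hne⟩ := s.hrank
    let g : Fin 4 → Z := ![1, ⟨z₁, h1, h1'⟩, ⟨z₂, h2, h2'⟩, ⟨z₁, h1, h1'⟩ * ⟨z₂, h2, h2'⟩]
    have hg : Function.Injective g := by
      have h3 : z₁ * z₂ ≠ 1 := fun e =>
        hne ((eq_inv_of_mul_eq_one_left e).trans (inv_eq_of_mul_eq_one_right h2'))
      intro x y e
      have e' := congrArg Subtype.val e
      fin_cases x <;> fin_cases y <;>
        simp [g, h1'', h2'', hne, hne.symm, h3, h3.symm, Ne.symm h1'', Ne.symm h2''] at e' ⊢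
    simpa using Nat.card_le_card_of_injective g hg
  refine nonempty_equiv_PSL_of_elementary E ?_ hcard ?_ ?_
  · rintro _ ⟨z, hz, rfl⟩
    rw [← map_mul, hz.2, map_one]
  · rintro _ ⟨z, hz, rfl⟩ hne
    have hz1 : z ≠ 1 := fun e => hne (by rw [e, map_one])
    have hzZ : IsZ A z := ⟨hz.1, hz.2, hz1⟩
    refine le_antisymm (fun q hq => ?_) ?_
    · obtain ⟨g, rfl⟩ := QuotientGroup.mk_surjective q
      rw [Subgroup.mem_centralizer_singleton_iff] at hq
      have hq' : (g * z * g⁻¹) * z⁻¹ ∈ (MM).normalCore := by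
        rw [← QuotientGroup.eq_one_iff, QuotientGroup.mk_mul, QuotientGroup.mk_mul,
          QuotientGroup.mk_mul, QuotientGroup.mk_inv, QuotientGroup.mk_inv]
        rw [QuotientGroup.mk'_apply] at hq
        rw [hq, mul_inv_cancel_right, mul_inv_cancel]
      have hfix : (g * z * g⁻¹) • o = o := by
        rw [show g * z * g⁻¹ = g * z * g⁻¹ * z⁻¹ * z by group, mul_smul,
          s.smul_base_of_H (s.le hz.1)]
        exact s.mem_core_iff.mp hq' o
      obtain ⟨-, hgz⟩ := s.isZ_conj_of_fix hzZ hfix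
      have hge := hZK _ (Z.mul_mem (show g * z * g⁻¹ ∈ Z from ⟨hgz.1, hgz.2.1⟩)
        (Z.inv_mem hz)) hq'
      obtain ⟨w, hw, hwK⟩ := hdecH g
        (s.mem_of_commute hzZ (mul_inv_eq_iff_eq_mul.mp (mul_inv_eq_one.mp hge)))
      refine ⟨w, hw, ?_⟩
      show (w : G ⧸ (MM).normalCore) = g
      rw [QuotientGroup.eq]
      simpa [mul_assoc] using (inferInstance : (MM).normalCore.Normal).conj_mem _ hwK w⁻¹
    · rintro _ ⟨w, hw, rfl⟩
      rw [Subgroup.mem_centralizer_singleton_iff, ← map_mul, ← map_mul, (s.comm_A hw.1 hz.1).eq]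
  · intro hsol
    have h1 : Group.IsSolvable (MM).normalCore := by
      have := s.M_isSolvable
      exact Group.isSolvable_of_isSolvable_injective
        (f := Subgroup.inclusion (MM).normalCore_le) (Subgroup.inclusion_injective _)
    exact s.hns ((Group.isSolvable_iff_subgroup_quotient _).mpr ⟨h1, hsol⟩)

end Setup

end CfsgLib.DGroupCent
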